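import Groth.Agent.Lib.LieNil20.Rank

/-!
# Cartan subalgebras and quasi-regular elements
-/

universe u

open TensorProduct LieModule Module

set_option backward.isDefEq.respectTransparency false
set_option linter.style.haveILetI false

attribute [local instance 100] LieRing.ofAssociativeRing

namespace Groth.Agent.LieNil20

variable {A : Type u} [CommRing A]

theorem subsingleton_of_fibres {C : Type u} [AddCommGroup C] [Module A C] [Module.Finite A C]
    (h : ∀ (p : PrimeSpectrum A) (y : C), ∃ s ∉ p.asIdeal, s • y ∈ p.asIdeal • (⊤ : Submodule A C)) :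
    Subsingleton C := by
  by_cases hA : (⊤ : Submodule A C).annihilator = ⊤
  · refine subsingleton_iff.2 fun x y => ?_
    have := fun z : C => (Submodule.mem_annihilator.1 (hA ▸ Submodule.mem_top : (1 : A) ∈ _)) z Submodule.mem_top
    rw [← one_smul A x, ← one_smul A y, this, this]
  obtain ⟨m, hm, hle⟩ := Ideal.exists_le_maximal _ hA
  have hC : (⊤ : Submodule A C) ≤ m • ⊤ := fun y _ => by
    obtain ⟨s, hs, hsy⟩ := h ⟨m, hm.isPrime⟩ y
    obtain ⟨t, i, hi, hti⟩ := hm.exists_inv hs
    have e : y = t • (s • y) + i • y := by rw [smul_smul, ← add_smul, hti, one_smul]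
    rw [e]
    exact add_mem (Submodule.smul_mem _ t hsy) (Submodule.smul_mem_smul hi Submodule.mem_top)
  obtain ⟨r, hr, hr0⟩ := Submodule.exists_sub_one_mem_and_smul_eq_zero_of_fg_of_le_smul m ⊤ Module.Finite.fg_top hC
  have hrm : r ∈ m := hle (Submodule.mem_annihilator.2 hr0)
  exact absurd ((m.eq_top_iff_one).2 (by simpa using m.sub_mem hrm hr)) hm.ne_top

theorem bijective_of_fibrewise_injective {M : Type u} [AddCommGroup M] [Module A M] [Module.Finite A M]
    (φ : M →ₗ[A] M) (h : ∀ p : PrimeSpectrum A, Function.Injective (φ.baseChange p.asIdeal.ResidueField)) :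
    Function.Bijective φ := by
  have hs : Function.Surjective φ := by
    rw [← LinearMap.range_eq_top, ← Submodule.Quotient.subsingleton_iff]
    refine subsingleton_of_fibres (A := A) fun p y => ?_
    obtain ⟨y, rfl⟩ := Submodule.mkQ_surjective _ y
    refine exists_smul_mem_of_tmul_eq_zero p.asIdeal ?_
    obtain ⟨z, hz⟩ := (LinearMap.injective_iff_surjective.1 (h p)) ((1 : p.asIdeal.ResidueField) ⊗ₜ[A] y)
    rw [← LinearMap.baseChange_tmul (LinearMap.range φ).mkQ, ← hz, ← LinearMap.comp_apply, ← LinearMap.baseChange_comp,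
      LinearMap.range_mkQ_comp, LinearMap.baseChange_zero, LinearMap.zero_apply]
  exact ⟨OrzechProperty.injective_of_surjective_endomorphism φ hs, hs⟩

variable {L : Type u} [LieRing L] [LieAlgebra A L] [Module.Finite A L] [Module.Projective A L]
  {H : LieSubalgebra A L} (hH : SGA3t2b.IsCartanRel H)

include hH in
theorem exists_pow_eq_zero : ∃ N : ℕ, ∀ b ∈ H, ∀ x ∈ H, ((LieAlgebra.ad A L b) ^ N) x = 0 := by
  obtain ⟨hfin, -, -⟩ := finrank_fibreSubmodule H hH.1
  haveI : Module.Finite A H := hfin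
  haveI : LieRing.IsNilpotent H := isNilpotent_of_fibres (A := A) (L := H) fun p => (hH.2 p).1
  obtain ⟨N, hN⟩ := LieModule.IsNilpotent.nilpotent A H H
  refine ⟨N, fun b hb x hx => ?_⟩
  have h1 := LieModule.iterate_toEnd_mem_lowerCentralSeries A H H ⟨b, hb⟩ ⟨x, hx⟩ N
  rw [hN, LieSubmodule.mem_bot] at h1
  have h2 : ∀ n, ((((LieModule.toEnd A H H ⟨b, hb⟩))^[n] ⟨x, hx⟩ : H) : L) = ((LieAlgebra.ad A L b) ^ n) x := by
    intro n
    induction n with
    | zero => rfl
    | succ n ih =>
      rw [Function.iterate_succ_apply', pow_succ', Module.End.mul_apply, ← ih]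
      rfl
  rw [← h2 N, h1]
  rfl

include hH in
theorem mem_of_pow_eq_zero {a : L} (haH : a ∈ H) (ha : SGA3t2b.IsQuasiRegular A L a) {n : ℕ} {x : L}
    (hx : ((LieAlgebra.ad A L a) ^ n) x = 0) : x ∈ H := by
  obtain ⟨N, hN⟩ := exists_pow_eq_zero hH
  obtain ⟨_, _, -⟩ := finrank_fibreSubmodule H hH.1
  let φ : (L ⧸ H.toSubmodule) →ₗ[A] (L ⧸ H.toSubmodule) :=
    H.toSubmodule.mapQ H.toSubmodule (LieAlgebra.ad A L a) fun y hy => H.lie_mem haH hy
  have hφ : Function.Bijective φ := by
    refine bijective_of_fibrewise_injective φ fun p => ?_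
    let κ := p.asIdeal.ResidueField
    let a' : κ ⊗[A] L := (1 : κ) ⊗ₜ[A] a
    let D := LieAlgebra.ad κ (κ ⊗[A] L) a'
    have eD : D = (LieAlgebra.ad A L a).baseChange κ := LieModule.toEnd_baseChange A κ L L a
    have hker : ∀ z ∈ SGA3t2b.fibreSubmodule p H, (D ^ N) z = 0 := by
      rintro z ⟨w, rfl⟩
      rw [← LinearMap.comp_apply]
      suffices (D ^ N) ∘ₗ H.toSubmodule.subtype.baseChange κ = 0 by rw [this, LinearMap.zero_apply]
      rw [eD, show ((LieAlgebra.ad A L a).baseChange κ) ^ N = ((LieAlgebra.ad A L a) ^ N).baseChange κ from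
        (map_pow (Module.End.baseChangeHom A κ L) (LieAlgebra.ad A L a) N).symm, ← LinearMap.baseChange_comp,
        show ((LieAlgebra.ad A L a) ^ N) ∘ₗ H.toSubmodule.subtype = 0 from LinearMap.ext fun y => hN a haH y y.2,
        LinearMap.baseChange_zero]
    have hle : SGA3t2b.fibreSubmodule p H ≤ (LieSubalgebra.engel κ a').toSubmodule := fun z hz =>
      (LieSubalgebra.mem_engel_iff κ a' z).2 ⟨N, hker z hz⟩
    have heq : SGA3t2b.fibreSubmodule p H = (LieSubalgebra.engel κ a').toSubmodule :=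
      Submodule.eq_of_le_of_finrank_eq hle
        ((hH.2 p).2.2.trans ((LieAlgebra.isRegular_iff_finrank_engel_eq_rank κ a').1 (ha p)).symm)
    rw [injective_iff_map_eq_zero]
    intro z hz
    obtain ⟨z, rfl⟩ := LinearMap.lTensor_surjective κ (Submodule.mkQ_surjective H.toSubmodule) z
    have hex : Function.Exact (H.toSubmodule.subtype.lTensor κ) (H.toSubmodule.mkQ.lTensor κ) :=
      lTensor_exact κ (LinearMap.exact_subtype_mkQ _) (Submodule.mkQ_surjective _)
    have e1 : H.toSubmodule.mkQ.lTensor κ (D z) = φ.baseChange κ (H.toSubmodule.mkQ.lTensor κ z) := by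
      clear hz
      rw [eD]
      induction z using TensorProduct.induction_on with
      | zero => simp
      | tmul c y => rfl
      | add y y' hy hy' => erw [map_add, map_add, map_add, map_add, hy, hy']
    obtain ⟨w, hw⟩ := (hex (D z)).1 (e1.trans hz)
    have hDz : D z ∈ SGA3t2b.fibreSubmodule p H := ⟨w, hw⟩
    have hz' : z ∈ SGA3t2b.fibreSubmodule p H := by
      rw [heq]
      refine (LieSubalgebra.mem_engel_iff κ a' z).2 ⟨N + 1, ?_⟩
      rw [pow_succ, Module.End.mul_apply]
      exact hker _ hDz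
    obtain ⟨v, rfl⟩ := hz'
    exact (hex _).2 ⟨v, rfl⟩
  induction n generalizing x with
  | zero => simp at hx; rw [hx]; exact H.zero_mem
  | succ n ih =>
    rw [pow_succ, Module.End.mul_apply] at hx
    have h1 : φ (H.toSubmodule.mkQ x) = 0 := (Submodule.Quotient.mk_eq_zero _).2 (ih hx)
    exact (Submodule.Quotient.mk_eq_zero H.toSubmodule).1 (hφ.1 (h1.trans (map_zero φ).symm))

include hH in
theorem map_eq_iff {a : L} (haH : a ∈ H) (ha : SGA3t2b.IsQuasiRegular A L a) (u : L ≃ₗ⁅A⁆ L) :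
    H.map u.toLieHom = H ↔ u a ∈ H := by
  refine ⟨fun h => h ▸ (LieSubalgebra.mem_map _ _ _).2 ⟨a, haH, rfl⟩, fun hua => ?_⟩
  obtain ⟨N, hN⟩ := exists_pow_eq_zero hH
  have hconj : ∀ n x, ((LieAlgebra.ad A L (u a)) ^ n) (u x) = u (((LieAlgebra.ad A L a) ^ n) x) := by
    intro n
    induction n with
    | zero => simp
    | succ n ih =>
      intro x
      rw [pow_succ', pow_succ', Module.End.mul_apply, Module.End.mul_apply, ih]
      exact (u.map_lie a _).symm
  have hinv : ∀ h ∈ H, u.symm h ∈ H := fun h hh => mem_of_pow_eq_zero hH haH ha (n := N) (by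
    refine u.injective ?_
    show u _ = u 0
    rw [← hconj, LieEquiv.apply_symm_apply, hN _ hua _ hh]
    exact (map_zero u.toLieHom).symm)
  obtain ⟨hfin, hproj, -⟩ := finrank_fibreSubmodule H hH.1
  obtain ⟨s, hs⟩ := Module.projective_lifting_property (h := hH.1) H.toSubmodule.mkQ LinearMap.id
    (Submodule.mkQ_surjective _)
  let π : L →ₗ[A] H.toSubmodule := (LinearMap.id - s ∘ₗ H.toSubmodule.mkQ).codRestrict _ fun x => by
    rw [← Submodule.Quotient.mk_eq_zero]
    have := LinearMap.congr_fun hs (Submodule.Quotient.mk x)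
    simp only [LinearMap.comp_apply, Submodule.mkQ_apply, LinearMap.id_apply] at this
    simp [this]
  have hπ : ∀ x (hx : x ∈ H.toSubmodule), π x = ⟨x, hx⟩ := fun x hx => Subtype.ext <| by
    simp [π, (Submodule.Quotient.mk_eq_zero H.toSubmodule).2 hx]
  let w : H.toSubmodule →ₗ[A] H.toSubmodule := π ∘ₗ u.toLinearEquiv.toLinearMap ∘ₗ H.toSubmodule.subtype
  have hw : ∀ h : H.toSubmodule, w ⟨u.symm h, hinv h h.2⟩ = h := fun h => by
    show π (u (u.symm h)) = h
    rw [LieEquiv.apply_symm_apply]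
    exact hπ _ h.2
  haveI := hfin
  have hwi : Function.Injective w := OrzechProperty.injective_of_surjective_endomorphism w fun h => ⟨_, hw h⟩
  refine le_antisymm (fun y hy => ?_) fun h hh => (LieSubalgebra.mem_map _ _ _).2 ⟨u.symm h, hinv h hh, u.apply_symm_apply h⟩
  obtain ⟨x, hx, rfl⟩ := (LieSubalgebra.mem_map _ _ _).1 hy
  have hx' : (⟨x, hx⟩ : H.toSubmodule) = ⟨u.symm (w ⟨x, hx⟩), hinv _ (w ⟨x, hx⟩).2⟩ := hwi (hw _).symm
  have hx'' : x = u.symm (w ⟨x, hx⟩) := congrArg Subtype.val hx'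
  show u x ∈ H
  rw [hx'', LieEquiv.apply_symm_apply]
  exact (w ⟨x, hx⟩).2

end Groth.Agent.LieNil20
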