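import Groth.Agent.Lib.LieNil20.Fitting

/-!
# Engel subalgebras of regular and quasi-regular elements
-/

universe u

open TensorProduct LieModule Module Cardinal

set_option backward.isDefEq.respectTransparency false
set_option linter.style.haveILetI false

attribute [local instance 100] LieRing.ofAssociativeRing

namespace Groth.Agent.LieNil20

theorem engel_le_engel_of_isRegular {K : Type u} [Field K] {g : Type u} [LieRing g] [LieAlgebra K g]
    [Module.Finite K g] (hK : finrank K g ≤ #K) {x : g} (hx : LieAlgebra.IsRegular K x) :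
    ∀ y ∈ LieSubalgebra.engel K x, LieSubalgebra.engel K x ≤ LieSubalgebra.engel K y := by
  intro y hy
  set Ex : {LieSubalgebra.engel K z | z ∈ LieSubalgebra.engel K x} :=
    ⟨LieSubalgebra.engel K x, x, LieSubalgebra.self_mem_engel _ _, rfl⟩
  suffices IsBot Ex from @this ⟨LieSubalgebra.engel K y, y, hy, rfl⟩
  apply LieAlgebra.engel_isBot_of_isMin hK (LieSubalgebra.engel K x) Ex le_rfl
  rintro ⟨_, z, hz, rfl⟩ hzx
  suffices finrank K (LieSubalgebra.engel K x) ≤ finrank K (LieSubalgebra.engel K z) by
    suffices LieSubalgebra.engel K z = LieSubalgebra.engel K x from this.ge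
    apply LieSubalgebra.toSubmodule_injective
    exact Submodule.eq_of_le_of_finrank_le hzx this
  rw [(LieAlgebra.isRegular_iff_finrank_engel_eq_rank K x).mp hx]
  apply LieAlgebra.rank_le_finrank_engel

/-- The Engel subalgebra of a regular element is nilpotent, over any field. -/
theorem isNilpotent_engel {k : Type u} [Field k] {g : Type u} [LieRing g] [LieAlgebra k g] [Module.Finite k g]
    {x : g} (hx : LieAlgebra.IsRegular k x) : LieRing.IsNilpotent (LieSubalgebra.engel k x) := by
  classical
  let K := AlgebraicClosure k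
  let j : g →+ K ⊗[k] g := (TensorProduct.mk k K g 1).toAddMonoidHom
  let b := Module.Free.chooseBasis k g
  have hreg : LieAlgebra.IsRegular K (j x) :=
    (isRegular_of_semilinear (algebraMap k K) b (Algebra.TensorProduct.basis K b) j
      (fun i => (Algebra.TensorProduct.basis_apply b i).symm)
      (fun c y => by
        show (1 : K) ⊗ₜ[k] (c • y) = algebraMap k K c • ((1 : K) ⊗ₜ[k] y)
        rw [TensorProduct.tmul_smul, algebraMap_smul])
      (fun (y z : g) => by
        show (1 : K) ⊗ₜ[k] ⁅y, z⁆ = ⁅(1 : K) ⊗ₜ[k] y, (1 : K) ⊗ₜ[k] z⁆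
        rw [LieAlgebra.ExtendScalars.bracket_tmul, one_mul]) x).2 hx
  have hpow : ∀ (y z : g) (n : ℕ), ((LieAlgebra.ad K (K ⊗[k] g) (j y)) ^ n) (j z) =
      j (((LieAlgebra.ad k g y) ^ n) z) := by
    intro y z n
    induction n with
    | zero => rfl
    | succ n ih =>
      rw [pow_succ', pow_succ', Module.End.mul_apply, Module.End.mul_apply, ih]
      show ⁅(1 : K) ⊗ₜ[k] y, (1 : K) ⊗ₜ[k] (((LieAlgebra.ad k g y) ^ n) z)⁆ = (1 : K) ⊗ₜ[k] ⁅y, ((LieAlgebra.ad k g y) ^ n) z⁆
      rw [LieAlgebra.ExtendScalars.bracket_tmul, one_mul]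
  have hj : Function.Injective j := by
    intro y z hyz
    refine b.repr.injective (Finsupp.ext fun i => (algebraMap k K).injective ?_)
    have := congrArg (fun w => (Algebra.TensorProduct.basis K b).repr w i) hyz
    simpa [j, Algebra.TensorProduct.basis_repr_tmul, Algebra.smul_def] using this
  have hmem : ∀ y ∈ LieSubalgebra.engel k x, j y ∈ LieSubalgebra.engel K (j x) := fun y hy => by
    obtain ⟨n, hn⟩ := (LieSubalgebra.mem_engel_iff k x y).1 hy
    exact (LieSubalgebra.mem_engel_iff K (j x) (j y)).2 ⟨n, by rw [hpow, hn, map_zero]⟩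
  refine LieSubalgebra.isNilpotent_of_forall_le_engel _ fun y hy z hz => ?_
  have hK : finrank K (K ⊗[k] g) ≤ #K :=
    natCast_le_aleph0.trans (Cardinal.infinite_iff.mp inferInstance)
  obtain ⟨n, hn⟩ := (LieSubalgebra.mem_engel_iff K (j y) (j z)).1
    (engel_le_engel_of_isRegular hK hreg _ (hmem y hy) (hmem z hz))
  exact (LieSubalgebra.mem_engel_iff k y z).2 ⟨n, hj (by rw [← hpow, hn, map_zero])⟩

variable {A : Type u} [CommRing A] {L : Type u} [LieRing L] [LieAlgebra A L]

theorem baseChange_lie (B : Type u) [CommRing B] [Algebra A B] {L₁ : Type u} [LieRing L₁] [LieAlgebra A L₁]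
    (g : L₁ →ₗ⁅A⁆ L) (x y : B ⊗[A] L₁) :
    g.toLinearMap.baseChange B ⁅x, y⁆ = ⁅g.toLinearMap.baseChange B x, g.toLinearMap.baseChange B y⁆ := by
  induction x using TensorProduct.induction_on with
  | zero => simp
  | add a b ha hb => simp only [add_lie, map_add, ha, hb]
  | tmul c w =>
    induction y using TensorProduct.induction_on with
    | zero => simp
    | add a b ha hb => simp only [lie_add, map_add, ha, hb]
    | tmul c' w' => simp [LieAlgebra.ExtendScalars.bracket_tmul]

/-- The map induced by `ad a` on the quotient by a subalgebra containing `a`. -/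
noncomputable def quotMap (H : LieSubalgebra A L) {a : L} (ha : a ∈ H) :
    Module.End A (L ⧸ H.toSubmodule) :=
  H.toSubmodule.mapQ H.toSubmodule (LieAlgebra.ad A L a) fun _ hy => H.lie_mem ha hy

theorem quotMap_pow (H : LieSubalgebra A L) {a : L} (ha : a ∈ H) (n : ℕ) (x : L) :
    (quotMap H ha ^ n) (H.toSubmodule.mkQ x) = H.toSubmodule.mkQ (((LieAlgebra.ad A L a) ^ n) x) := by
  induction n with
  | zero => rfl
  | succ n ih => rw [pow_succ', pow_succ', Module.End.mul_apply, ih]; rfl

theorem mem_fibreSubmodule_of_pow (H : LieSubalgebra A L) {a : L} (ha : a ∈ H) (p : PrimeSpectrum A)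
    (hinj : Function.Injective ((quotMap H ha).baseChange p.asIdeal.ResidueField)) :
    ∀ {n : ℕ} {z : p.asIdeal.ResidueField ⊗[A] L},
      ((LieAlgebra.ad p.asIdeal.ResidueField (p.asIdeal.ResidueField ⊗[A] L)
        ((1 : p.asIdeal.ResidueField) ⊗ₜ[A] a)) ^ n) z = 0 → z ∈ SGA3t2b.fibreSubmodule p H := by
  intro n
  induction n with
  | zero =>
    intro z hz
    rw [show z = 0 from hz]
    exact zero_mem _
  | succ n ih =>
    intro z hz
    rw [pow_succ, Module.End.mul_apply] at hz
    obtain ⟨w, hw⟩ := ih hz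
    have e1 : ∀ z, H.toSubmodule.mkQ.baseChange p.asIdeal.ResidueField
        (LieAlgebra.ad p.asIdeal.ResidueField (p.asIdeal.ResidueField ⊗[A] L)
          ((1 : p.asIdeal.ResidueField) ⊗ₜ[A] a) z) =
        (quotMap H ha).baseChange p.asIdeal.ResidueField (H.toSubmodule.mkQ.baseChange p.asIdeal.ResidueField z) := by
      intro z
      rw [show LieAlgebra.ad p.asIdeal.ResidueField (p.asIdeal.ResidueField ⊗[A] L)
        ((1 : p.asIdeal.ResidueField) ⊗ₜ[A] a) = (LieAlgebra.ad A L a).baseChange p.asIdeal.ResidueField from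
          LieModule.toEnd_baseChange A p.asIdeal.ResidueField L L a, ← LinearMap.comp_apply, ← LinearMap.comp_apply,
        ← LinearMap.baseChange_comp, ← LinearMap.baseChange_comp]
      rfl
    have hz0 : H.toSubmodule.mkQ.baseChange p.asIdeal.ResidueField z = 0 := by
      refine hinj ?_
      rw [← e1, map_zero, ← hw, ← LinearMap.comp_apply, ← LinearMap.baseChange_comp,
        show H.toSubmodule.mkQ ∘ₗ H.toSubmodule.subtype = 0 from LinearMap.ext fun x =>
          (Submodule.Quotient.mk_eq_zero _).2 x.2, LinearMap.baseChange_zero, LinearMap.zero_apply]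
    exact (lTensor_exact p.asIdeal.ResidueField (LinearMap.exact_subtype_mkQ _)
      (Submodule.mkQ_surjective H.toSubmodule) z).1 hz0

theorem exists_uniform_pow [Module.Finite A L] [Module.Projective A L] {a : L}
    (hproj : Module.Projective A (L ⧸ (LieSubalgebra.engel A a).toSubmodule)) :
    ∃ N : ℕ, ∀ y ∈ LieSubalgebra.engel A a, ((LieAlgebra.ad A L a) ^ N) y = 0 := by
  classical
  obtain ⟨hfin, -, -⟩ := finrank_fibreSubmodule _ hproj
  obtain ⟨s, hs⟩ := Module.Finite.iff_fg.1 hfin
  have h := fun y (hy : y ∈ s) => (LieSubalgebra.mem_engel_iff A a y).1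
    (hs.le (Submodule.subset_span hy))
  choose n hn using h
  obtain ⟨N, hNdef⟩ : ∃ N, N = s.attach.sup fun y => n y.1 y.2 := ⟨_, rfl⟩
  refine ⟨N, fun y hy => ?_⟩
  have hle : (LieSubalgebra.engel A a).toSubmodule ≤ LinearMap.ker ((LieAlgebra.ad A L a) ^ N) := by
    rw [hNdef]
    rw [← hs, Submodule.span_le]
    exact fun z hz => Module.End.pow_map_zero_of_le
      (Finset.le_sup (f := fun y : {y // y ∈ s} => n y.1 y.2) (Finset.mem_attach s ⟨z, hz⟩)) (hn z hz)
  exact hle hy

/-- A quasi-regular element with a good Engel subalgebra is regular. -/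
theorem isCartanRel_engel [Module.Finite A L] [Module.Projective A L] {a : L}
    (ha : SGA3t2b.IsQuasiRegular A L a)
    (hproj : Module.Projective A (L ⧸ (LieSubalgebra.engel A a).toSubmodule))
    (hinj : ∀ z : L, ⁅a, z⁆ ∈ LieSubalgebra.engel A a → z ∈ LieSubalgebra.engel A a)
    (hsurj : ∀ y : L, ∃ z : L, ⁅a, z⁆ - y ∈ LieSubalgebra.engel A a) :
    SGA3t2b.IsCartanRel (LieSubalgebra.engel A a) := by
  let E := LieSubalgebra.engel A a
  have haE : a ∈ E := LieSubalgebra.self_mem_engel A a
  obtain ⟨N, hN⟩ := exists_uniform_pow hproj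
  have hbij : Function.Bijective (quotMap E haE) := by
    constructor
    · rw [injective_iff_map_eq_zero]
      intro z hz
      obtain ⟨z, rfl⟩ := Submodule.mkQ_surjective _ z
      exact (Submodule.Quotient.mk_eq_zero _).2 (hinj z ((Submodule.Quotient.mk_eq_zero _).1 hz))
    · intro y
      obtain ⟨y, rfl⟩ := Submodule.mkQ_surjective _ y
      obtain ⟨z, hz⟩ := hsurj y
      exact ⟨E.toSubmodule.mkQ z, (Submodule.Quotient.eq _).2 hz⟩
  refine ⟨hproj, fun p => ?_⟩
  let κ := p.asIdeal.ResidueField
  let a' : κ ⊗[A] L := (1 : κ) ⊗ₜ[A] a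
  have hbinj : Function.Injective ((quotMap E haE).baseChange κ) :=
    (LinearEquiv.baseChange A κ _ _ (LinearEquiv.ofBijective (quotMap E haE) hbij)).injective
  have eD : LieAlgebra.ad κ (κ ⊗[A] L) a' = (LieAlgebra.ad A L a).baseChange κ :=
    LieModule.toEnd_baseChange A κ L L a
  have heq : SGA3t2b.fibreSubmodule p E = (LieSubalgebra.engel κ a').toSubmodule := by
    refine le_antisymm ?_ fun z hz => ?_
    · rintro z ⟨w, rfl⟩
      refine (LieSubalgebra.mem_engel_iff κ a' _).2 ⟨N, ?_⟩
      rw [eD, show ((LieAlgebra.ad A L a).baseChange κ) ^ N = ((LieAlgebra.ad A L a) ^ N).baseChange κ from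
        (map_pow (Module.End.baseChangeHom A κ L) (LieAlgebra.ad A L a) N).symm, ← LinearMap.comp_apply,
        ← LinearMap.baseChange_comp, show ((LieAlgebra.ad A L a) ^ N) ∘ₗ E.toSubmodule.subtype = 0 from
          LinearMap.ext fun y => hN y y.2, LinearMap.baseChange_zero, LinearMap.zero_apply]
    · obtain ⟨n, hn⟩ := (LieSubalgebra.mem_engel_iff κ a' z).1 hz
      exact mem_fibreSubmodule_of_pow E haE p hbinj hn
  refine ⟨?_, fun x hx => ?_, ?_⟩
  · obtain ⟨s, hs⟩ := Module.projective_lifting_property (h := hproj) E.toSubmodule.mkQ LinearMap.id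
      (Submodule.mkQ_surjective _)
    let π : L →ₗ[A] E := (LinearMap.id - s ∘ₗ E.toSubmodule.mkQ).codRestrict E.toSubmodule fun x => by
      rw [← Submodule.Quotient.mk_eq_zero]
      have := LinearMap.congr_fun hs (Submodule.Quotient.mk x)
      simp only [LinearMap.comp_apply, Submodule.mkQ_apply, LinearMap.id_apply] at this
      show Submodule.Quotient.mk (x - s (Submodule.Quotient.mk x)) = 0
      rw [Submodule.Quotient.mk_sub, this]
      exact sub_self _
    let ι : E →ₗ[A] L := (E.incl : E →ₗ⁅A⁆ L).toLinearMap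
    have hπ : π ∘ₗ ι = LinearMap.id := LinearMap.ext fun x => Subtype.ext <| by
      show (x : L) - s (Submodule.Quotient.mk (x : L)) = x
      rw [(Submodule.Quotient.mk_eq_zero E.toSubmodule).2 x.2, map_zero, sub_zero]
    let f : κ ⊗[A] E →ₗ⁅κ⁆ LieSubalgebra.engel κ a' :=
      { toLinearMap := LinearMap.codRestrict (LieSubalgebra.engel κ a').toSubmodule
          (ι.baseChange κ) fun w => heq ▸ (⟨w, rfl⟩ : _ ∈ SGA3t2b.fibreSubmodule p E)
        map_lie' := by
          intro x y
          refine Subtype.ext ?_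
          exact baseChange_lie κ E.incl x y }
    have hf : Function.Injective f := fun x y hxy => by
      have h : ι.baseChange κ x = ι.baseChange κ y := congrArg Subtype.val hxy
      have h2 := congrArg (π.baseChange κ) h
      rw [← LinearMap.comp_apply, ← LinearMap.comp_apply, ← LinearMap.baseChange_comp, hπ,
        LinearMap.baseChange_id, LinearMap.id_apply, LinearMap.id_apply] at h2
      exact h2
    haveI := isNilpotent_engel (ha p)
    exact hf.lieAlgebra_isNilpotent
  · rw [heq] at hx ⊢
    have hn := (LieSubalgebra.mem_normalizer_iff (LieSubalgebra.engel κ a') x).2 hx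
    rwa [LieSubalgebra.normalizer_engel] at hn
  · rw [heq]
    exact (LieAlgebra.isRegular_iff_finrank_engel_eq_rank κ a').1 (ha p)

end Groth.Agent.LieNil20
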