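import Groth.Agent.Lib.LieNil20.Cartan

/-!
# Strongly π-regular endomorphisms and Engel subalgebras
-/

universe u

open TensorProduct LieModule Module Polynomial

set_option backward.isDefEq.respectTransparency false
set_option linter.style.haveILetI false

attribute [local instance 100] LieRing.ofAssociativeRing

namespace Groth.Agent.LieNil20

variable {A : Type u} [CommRing A]

/-- The ideal of scalars exhibiting `φ ^ N` as a multiple of `φ ^ (N + 1)`. -/
def piIdeal {R : Type u} [Ring R] [Algebra A R] (φ : R) (N : ℕ) : Ideal A where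
  carrier := {x | ∃ P : A[X], x • φ ^ N = φ ^ (N + 1) * aeval φ P}
  zero_mem' := ⟨0, by simp⟩
  add_mem' := by
    rintro x y ⟨P, hP⟩ ⟨Q, hQ⟩
    exact ⟨P + Q, by rw [add_smul, hP, hQ, map_add, mul_add]⟩
  smul_mem' := by
    rintro a x ⟨P, hP⟩
    exact ⟨a • P, by rw [smul_eq_mul, mul_smul, hP, map_smul, mul_smul_comm]⟩

theorem exists_mem_piIdeal {R : Type u} [Ring R] [Algebra A R] (φ : R) (c : A[X]) (hc : aeval φ c = 0)
    {N s : ℕ} (hs : s ≤ N) (q : Ideal A) [q.IsPrime] (f : A) (hf : f ∉ q) (hlow : ∀ i < s, f * c.coeff i = 0)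
    (hcs : c.coeff s ∉ q) : ∃ x ∉ q, x ∈ piIdeal φ N := by
  obtain ⟨g, hg⟩ : X ^ s ∣ Polynomial.C f * c := X_pow_dvd_iff.2 fun i hi => by rw [coeff_C_mul]; exact hlow i hi
  have hg0 : g.coeff 0 = f * c.coeff s := by
    rw [← coeff_C_mul c, hg, coeff_X_pow_mul' g s s, if_pos le_rfl, Nat.sub_self]
  refine ⟨f * c.coeff s, fun h => (‹q.IsPrime›.mem_or_mem h).elim hf hcs, -g.divX, ?_⟩
  have h0 : φ ^ s * aeval φ g = 0 := by
    have := congrArg (aeval φ) hg
    rw [map_mul, map_mul, hc, mul_zero, map_pow, aeval_X] at this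
    exact this.symm
  have h1 : aeval φ g = φ * aeval φ g.divX + algebraMap A R (f * c.coeff s) := by
    conv_lhs => rw [← g.X_mul_divX_add]
    rw [map_add, map_mul, aeval_X, aeval_C, hg0]
  have h2 : φ ^ N * aeval φ g = 0 := by
    rw [← Nat.sub_add_cancel hs, pow_add, mul_assoc, h0, mul_zero]
  rw [h1, mul_add, ← mul_assoc, ← pow_succ, add_eq_zero_iff_neg_eq] at h2
  rw [map_neg, mul_neg, h2, Algebra.smul_def, Algebra.commutes]

theorem eq_top_of_forall_prime (I : Ideal A) (h : ∀ q : Ideal A, q.IsPrime → ∃ x ∉ q, x ∈ I) : I = ⊤ := by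
  by_contra hI
  obtain ⟨m, hm, hle⟩ := Ideal.exists_le_maximal I hI
  obtain ⟨x, hx, hxI⟩ := h m hm.isPrime
  exact hx (hle hxI)

section

variable {M : Type u} [AddCommGroup M] [Module A M] {φ : Module.End A M} {N : ℕ} {P : A[X]}
  (h : φ ^ N = φ ^ (N + 1) * aeval φ P)

theorem commute_aeval (φ : Module.End A M) (P : A[X]) : Commute φ (aeval φ P) := by
  simpa using (Commute.all (X : A[X]) P).map (aeval φ)

include h in
theorem pow_absorb : ∀ j, φ ^ N = φ ^ (N + j) * (aeval φ P) ^ j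
  | 0 => by simp
  | j + 1 => by
    conv_lhs => rw [pow_absorb j, Nat.add_comm N j, pow_add, h, ← mul_assoc, ← pow_add, mul_assoc, ← pow_succ']
    rw [show j + (N + 1) = N + (j + 1) by omega]

include h in
theorem pow_apply_eq_zero {n : ℕ} {x : M} (hx : (φ ^ n) x = 0) : (φ ^ N) x = 0 := by
  have hc : Commute (φ ^ (N + n)) ((aeval φ P) ^ n) := (commute_aeval φ P).pow_pow _ _
  rw [pow_absorb h n, hc.eq, Module.End.mul_apply, pow_add, Module.End.mul_apply, hx, map_zero, map_zero]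

include h in
theorem fitting_decomposition [Module.Projective A M] :
    Module.Projective A (M ⧸ LinearMap.ker (φ ^ N)) ∧
      (∀ z, φ z ∈ LinearMap.ker (φ ^ N) → z ∈ LinearMap.ker (φ ^ N)) ∧
      ∀ y, ∃ z, φ z - y ∈ LinearMap.ker (φ ^ N) := by
  let π : Module.End A M := (aeval φ P) ^ N * φ ^ N
  have hπ : φ ^ N * π = φ ^ N := by
    conv_rhs => rw [pow_absorb h N]
    rw [← mul_assoc, ((commute_aeval φ P).pow_pow N N).eq, mul_assoc, ← pow_add]
    exact ((commute_aeval φ P).pow_pow _ _).eq.symm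
  refine ⟨?_, fun z hz => ?_, fun y => ?_⟩
  · refine Module.Projective.of_split ((LinearMap.ker (φ ^ N)).liftQ π fun x hx => ?_)
      (LinearMap.ker (φ ^ N)).mkQ ?_
    · rw [LinearMap.mem_ker] at hx ⊢
      rw [Module.End.mul_apply, hx, map_zero]
    · refine Submodule.linearMap_qext _ (LinearMap.ext fun x => ?_)
      simp only [LinearMap.comp_apply, Submodule.mkQ_apply, Submodule.liftQ_apply, LinearMap.id_apply]
      rw [Submodule.Quotient.eq, LinearMap.mem_ker, map_sub, ← Module.End.mul_apply, hπ, sub_self]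
  · exact LinearMap.mem_ker.2 (pow_apply_eq_zero h (n := N + 1)
      (by rw [pow_succ, Module.End.mul_apply]; exact LinearMap.mem_ker.1 hz))
  · refine ⟨aeval φ P y, LinearMap.mem_ker.2 ?_⟩
    rw [map_sub, ← Module.End.mul_apply, ← Module.End.mul_apply, ← pow_succ, ← h, sub_self]

include h in
theorem ker_eq_iUnion (x : M) : x ∈ LinearMap.ker (φ ^ N) ↔ ∃ n, (φ ^ n) x = 0 :=
  ⟨fun hx => ⟨N, hx⟩, fun ⟨_, hn⟩ => pow_apply_eq_zero h hn⟩

end

end Groth.Agent.LieNil20
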