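import Groth.Agent.Lib.LieNil20.Universal
import Mathlib.RingTheory.Etale.Pi

/-!
# Cartan subalgebras locally on the base
-/

universe u

open TensorProduct LieModule Module Polynomial Cardinal

set_option backward.isDefEq.respectTransparency false
set_option linter.style.haveILetI false

attribute [local instance 100] LieRing.ofAssociativeRing

namespace Groth.Agent.LieNil20

theorem exists_isRegular_mem {K : Type u} [Field K] {g : Type u} [LieRing g] [LieAlgebra K g] [Module.Finite K g]
    (hK : finrank K g ≤ #K) (h : LieSubalgebra K g) [LieRing.IsNilpotent h]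
    (hnorm : ∀ e : g, (∀ y ∈ h, ⁅e, y⁆ ∈ h) → e ∈ h) (hdim : finrank K h.toSubmodule = LieAlgebra.rank K g) :
    ∃ x ∈ h, LieAlgebra.IsRegular K x := by
  classical
  have hpow : ∀ y : h, ∀ (z : h) (n : ℕ),
      ((((LieModule.toEnd K h h y))^[n] z : h) : g) = ((LieAlgebra.ad K g (y : g)) ^ n) (z : g) := by
    intro y z n
    induction n with
    | zero => rfl
    | succ n ih =>
      rw [Function.iterate_succ_apply', pow_succ', Module.End.mul_apply, ← ih]
      rfl
  obtain ⟨k, hk⟩ := LieModule.IsNilpotent.nilpotent K h h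
  have hle : ∀ y ∈ h, h ≤ LieSubalgebra.engel K y := by
    intro y hy z hz
    refine (LieSubalgebra.mem_engel_iff K y z).2 ⟨k, ?_⟩
    have h1 := LieModule.iterate_toEnd_mem_lowerCentralSeries K h h ⟨y, hy⟩ ⟨z, hz⟩ k
    rw [hk, LieSubmodule.mem_bot] at h1
    rw [← hpow ⟨y, hy⟩ ⟨z, hz⟩ k, h1]
    rfl
  have hex : ∃ n, ∃ x ∈ h, finrank K (LieSubalgebra.engel K x) = n := ⟨_, 0, h.zero_mem, rfl⟩
  obtain ⟨x, hx, hxn⟩ := Nat.find_spec hex
  set Ex : {LieSubalgebra.engel K z | z ∈ h} := ⟨LieSubalgebra.engel K x, x, hx, rfl⟩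
  have hbot : IsBot Ex := by
    refine LieAlgebra.engel_isBot_of_isMin hK h Ex (hle x hx) ?_
    rintro ⟨_, z, hz, rfl⟩ hzx
    have h1 : finrank K (LieSubalgebra.engel K x) ≤ finrank K (LieSubalgebra.engel K z) :=
      hxn ▸ Nat.find_min' hex ⟨z, hz, rfl⟩
    suffices LieSubalgebra.engel K z = LieSubalgebra.engel K x from this.ge
    exact LieSubalgebra.toSubmodule_injective (Submodule.eq_of_le_of_finrank_le hzx h1)
  have hEy : ∀ y ∈ h, LieSubalgebra.engel K x ≤ LieSubalgebra.engel K y := fun y hy =>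
    @hbot ⟨LieSubalgebra.engel K y, y, hy, rfl⟩
  let E : LieSubmodule K h g :=
    { (LieSubalgebra.engel K x).toSubmodule with
      lie_mem := fun {u m} hm => (LieSubalgebra.engel K x).lie_mem (hle x hx u.2) hm }
  haveI : Module.Finite K E := inferInstanceAs (Module.Finite K (LieSubalgebra.engel K x).toSubmodule)
  haveI : IsNoetherian K E := inferInstance
  haveI : LieModule.IsNilpotent h E := by
    rw [LieModule.isNilpotent_iff_forall' (R := K)]
    intro y
    rw [Module.End.isNilpotent_iff_of_finite]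
    intro m
    obtain ⟨n, hn⟩ := (LieSubalgebra.mem_engel_iff K (y : g) (m : g)).1 (hEy y y.2 m.2)
    refine ⟨n, Subtype.ext ?_⟩
    rw [ZeroMemClass.coe_zero, ← hn]
    clear hn
    induction n with
    | zero => rfl
    | succ n ih => rw [pow_succ', pow_succ', Module.End.mul_apply, Module.End.mul_apply, ← ih]; rfl
  obtain ⟨k', hk'⟩ := LieModule.IsNilpotent.nilpotent K h E
  have step : ∀ j i, i + j = k' → ∀ e ∈ LieModule.lowerCentralSeries K h E i, (e : g) ∈ h := by
    intro j
    induction j with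
    | zero =>
      intro i hi e he
      rw [Nat.add_zero] at hi
      rw [hi, hk', LieSubmodule.mem_bot] at he
      rw [he]
      exact h.zero_mem
    | succ j ih =>
      intro i hi e he
      refine hnorm e fun y hy => ?_
      have h1 : (⁅(⟨y, hy⟩ : h), e⁆ : E) ∈ LieModule.lowerCentralSeries K h E (i + 1) := by
        rw [LieModule.lowerCentralSeries_succ]
        exact LieSubmodule.lie_mem_lie (LieSubmodule.mem_top _) he
      have h2 : ⁅y, (e : g)⁆ ∈ h := ih (i + 1) (by omega) _ h1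
      rw [← lie_skew]
      exact h.neg_mem h2
  have hEh : (LieSubalgebra.engel K x).toSubmodule = h.toSubmodule :=
    le_antisymm (fun e he => step k' 0 (Nat.zero_add _) ⟨e, he⟩ (by simp)) (hle x hx)
  exact ⟨x, hx, (LieAlgebra.isRegular_iff_finrank_engel_eq_rank K x).2 ((congrArg (fun S : Submodule K g => finrank K S) hEh).trans hdim)⟩

variable {A : Type u} [CommRing A]

/-- Every element of a fibre is a scalar multiple of the image of a section. -/
theorem exists_smul_tmul {M : Type u} [AddCommGroup M] [Module A M] (p : Ideal A) [p.IsPrime]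
    (y : p.ResidueField ⊗[A] M) :
    ∃ (c : p.ResidueField) (x : M), y = c • ((1 : p.ResidueField) ⊗ₜ[A] x) := by
  haveI := isLocalizedModule_quotient p
  let f := TensorProduct.AlgebraTensorModule.rTensor A M
    (IsScalarTower.toAlgHom A (A ⧸ p) p.ResidueField).toLinearMap
  haveI : IsLocalizedModule p.primeCompl f :=
    IsLocalizedModule.rTensor (R := A) (A := A) (N := M) p.primeCompl _
  obtain ⟨⟨z, s⟩, hz⟩ := IsLocalizedModule.surj p.primeCompl f y
  obtain ⟨x, hx⟩ : ∃ x : M, z = (1 : A ⧸ p) ⊗ₜ[A] x := by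
    clear hz
    induction z using TensorProduct.induction_on with
    | zero => exact ⟨0, by simp⟩
    | tmul a x =>
      obtain ⟨a, rfl⟩ := Ideal.Quotient.mk_surjective a
      exact ⟨a • x, by rw [← TensorProduct.smul_tmul, ← Ideal.Quotient.algebraMap_eq, Algebra.smul_def, mul_one]⟩
    | add u v hu hv =>
      obtain ⟨x, rfl⟩ := hu
      obtain ⟨x', rfl⟩ := hv
      exact ⟨x + x', by rw [TensorProduct.tmul_add]⟩
  refine ⟨(algebraMap A p.ResidueField s)⁻¹, x, ?_⟩
  have hs : algebraMap A p.ResidueField s ≠ 0 := fun e => s.2 (Ideal.algebraMap_residueField_eq_zero.1 e)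
  have hz' : (s : A) • y = (1 : p.ResidueField) ⊗ₜ[A] x := by
    rw [← Submonoid.smul_def, hz, hx]
    simp [f]
  rw [← hz', ← IsScalarTower.algebraMap_smul p.ResidueField (s : A) y, smul_smul, inv_mul_cancel₀ hs, one_smul]

theorem isRegular_of_smul {K : Type u} [Field K] {g : Type u} [LieRing g] [LieAlgebra K g] [Module.Finite K g]
    {c : K} (hc : c ≠ 0) {x : g} (h : LieAlgebra.IsRegular K (c • x)) : LieAlgebra.IsRegular K x := by
  rw [LieAlgebra.isRegular_iff_finrank_engel_eq_rank] at h ⊢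
  rwa [show LieSubalgebra.engel K x = LieSubalgebra.engel K (c • x) from LieSubalgebra.ext _ _ fun y => by
    simp only [LieSubalgebra.mem_engel_iff, map_smul, _root_.smul_pow, LinearMap.smul_apply, smul_eq_zero,
      pow_eq_zero_iff', hc, false_and, false_or]]

variable {L : Type u} [LieRing L] [LieAlgebra A L]

theorem exists_section_of_regular [Module.Finite A L] (p : PrimeSpectrum A)
    {x : p.asIdeal.ResidueField ⊗[A] L} (hx : LieAlgebra.IsRegular p.asIdeal.ResidueField x) :
    ∃ a : L, LieAlgebra.IsRegular p.asIdeal.ResidueField ((1 : p.asIdeal.ResidueField) ⊗ₜ[A] a) := by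
  obtain ⟨c, a, rfl⟩ := exists_smul_tmul p.asIdeal x
  by_cases hc : c = 0
  · exact ⟨0, by simpa [hc] using hx⟩
  · exact ⟨a, isRegular_of_smul hc hx⟩

theorem cartan_regular_section [Module.Finite A L] [Module.Projective A L] {H : LieSubalgebra A L}
    (hH : SGA3t2b.IsCartanRel H) (p : PrimeSpectrum A) (hp : Infinite p.asIdeal.ResidueField) :
    ∃ a ∈ H, LieAlgebra.IsRegular p.asIdeal.ResidueField ((1 : p.asIdeal.ResidueField) ⊗ₜ[A] a) := by
  let κ := p.asIdeal.ResidueField
  let f : κ ⊗[A] H →ₗ⁅κ⁆ κ ⊗[A] L :=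
    { toLinearMap := H.incl.toLinearMap.baseChange κ
      map_lie' := fun {x y} => baseChange_lie κ H.incl x y }
  haveI : LieRing.IsNilpotent (κ ⊗[A] H) := (hH.2 p).1
  haveI : LieRing.IsNilpotent f.range := f.isNilpotent_range
  have heq : f.range.toSubmodule = SGA3t2b.fibreSubmodule p H := rfl
  obtain ⟨x, hx, hreg⟩ := exists_isRegular_mem (natCast_le_aleph0.trans (Cardinal.infinite_iff.mp hp)) f.range
    (fun e he => (hH.2 p).2.1 e he) ((hH.2 p).2.2)
  obtain ⟨w, rfl⟩ := hx
  obtain ⟨c, a, rfl⟩ := exists_smul_tmul p.asIdeal w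
  have e1 : f (c • ((1 : κ) ⊗ₜ[A] a)) = c • ((1 : κ) ⊗ₜ[A] (a : L)) := by rw [map_smul]; rfl
  by_cases hc : c = 0
  · exact ⟨0, H.zero_mem, by rw [TensorProduct.tmul_zero]; simpa [hc] using hreg⟩
  · exact ⟨a, a.2, isRegular_of_smul hc (e1 ▸ hreg)⟩

theorem rank_locallyConstant' [Module.Finite A L] [Module.Projective A L] {H : LieSubalgebra A L}
    (hH : SGA3t2b.IsCartanRel H) :
    ∀ p : PrimeSpectrum A, ∃ f : A, f ∉ p.asIdeal ∧ ∀ q : PrimeSpectrum A, f ∉ q.asIdeal →
        LieAlgebra.rank q.asIdeal.ResidueField (q.asIdeal.ResidueField ⊗[A] L) =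
          LieAlgebra.rank p.asIdeal.ResidueField (p.asIdeal.ResidueField ⊗[A] L) := by
  intro p
  obtain ⟨_, _, hfin⟩ := finrank_fibreSubmodule H hH.1
  haveI : Module.FinitePresentation A H.toSubmodule := Module.finitePresentation_of_projective _ _
  have e : ∀ q : PrimeSpectrum A, Module.rankAtStalk H.toSubmodule q =
      LieAlgebra.rank q.asIdeal.ResidueField (q.asIdeal.ResidueField ⊗[A] L) := fun q =>
    (hfin q).symm.trans (hH.2 q).2.2
  obtain ⟨_, ⟨f, rfl⟩, hpf, hf⟩ := PrimeSpectrum.isTopologicalBasis_basic_opens.exists_subset_of_mem_open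
    (Set.mem_singleton _ : p ∈ Module.rankAtStalk H.toSubmodule ⁻¹' {Module.rankAtStalk H.toSubmodule p})
    (Module.isLocallyConstant_rankAtStalk _)
  exact ⟨f, hpf, fun q hq => by rw [← e, ← e]; exact hf hq⟩

theorem coeff_zero_charpoly_ne_zero {K : Type u} [Field K] {V : Type u} [AddCommGroup V] [Module K V]
    [Module.Finite K V] (g : Module.End K V) (hg : Function.Injective g) : g.charpoly.coeff 0 ≠ 0 := fun h => by
  have hd : LinearMap.det g ≠ 0 := IsUnit.ne_zero (LinearMap.isUnit_det g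
    ((Module.End.isUnit_iff g).2 ⟨hg, LinearMap.injective_iff_surjective.1 hg⟩))
  exact hd (by rw [LinearMap.det_eq_sign_charpoly_coeff, h, mul_zero])

theorem exists_pow_smul_kills {M : Type u} [AddCommGroup M] [Module A M] [Module.Finite A M] [Module.Projective A M]
    (φ : Module.End A M) (f : A)
    (h : ∀ q : PrimeSpectrum A, f ∉ q.asIdeal → Function.Injective (φ.baseChange q.asIdeal.ResidueField)) :
    ∃ m : ℕ, ∀ (n : ℕ) (z : M), (φ ^ n) z = 0 → (f ^ (m * n)) • z = 0 := by
  obtain ⟨Q, _, _, _, _, _⟩ := exists_free_prod (A := A) M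
  let Φ : Module.End A (M × Q) := φ.prodMap LinearMap.id
  let c := Φ.charpoly
  have hev : ∀ (P : A[X]) (x : M), aeval Φ P (x, 0) = (aeval φ P x, 0) := by
    intro P
    induction P using Polynomial.induction_on with
    | C a => intro x; simp [Algebra.algebraMap_eq_smul_one]
    | add p q hp hq => intro x; simp [map_add, hp, hq]
    | monomial n a ih =>
      intro x
      rw [pow_succ, ← mul_assoc, map_mul (aeval Φ) (Polynomial.C a * X ^ n) X,
        map_mul (aeval φ) (Polynomial.C a * X ^ n) X, aeval_X, aeval_X, Module.End.mul_apply, Module.End.mul_apply,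
        LinearMap.prodMap_apply, map_zero, ih]
  have hc : aeval φ c = 0 := LinearMap.ext fun x => by
    have := hev c x
    rw [LinearMap.aeval_self_charpoly, LinearMap.zero_apply] at this
    exact (congrArg Prod.fst this).symm
  have hrad : f ∈ (piIdeal φ 0).radical := by
    rw [Ideal.radical_eq_sInf]
    refine Submodule.mem_sInf.2 fun q hq => by_contra fun hfq => ?_
    obtain ⟨hle, hqp⟩ := hq
    let q' : PrimeSpectrum A := ⟨q, hqp⟩
    let κ := q'.asIdeal.ResidueField
    have hinj : Function.Injective (Φ.baseChange κ) := by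
      intro u v huv
      refine (TensorProduct.prodRight A κ κ M Q).injective ?_
      have hcomp : ∀ w, TensorProduct.prodRight A κ κ M Q (Φ.baseChange κ w) =
          (φ.baseChange κ (TensorProduct.prodRight A κ κ M Q w).1, (TensorProduct.prodRight A κ κ M Q w).2) := by
        intro w
        induction w using TensorProduct.induction_on with
        | zero => simp; rfl
        | tmul d x => simp [Φ]
        | add x y hx hy => simp only [map_add, hx, hy, Prod.mk_add_mk, Prod.fst_add, Prod.snd_add]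
      have h2 := (hcomp u).symm.trans ((congrArg _ huv).trans (hcomp v))
      rw [Prod.ext_iff] at h2 ⊢
      exact ⟨h q' hfq h2.1, h2.2⟩
    have hc0 : c.coeff 0 ∉ q := fun hmem => coeff_zero_charpoly_ne_zero (Φ.baseChange κ) hinj (by
      rw [LinearMap.charpoly_baseChange, Polynomial.coeff_map]
      exact Ideal.algebraMap_residueField_eq_zero.2 hmem)
    obtain ⟨x, hx, hxI⟩ := exists_mem_piIdeal φ c hc (le_refl 0) q 1 ((Ideal.ne_top_iff_one q).1 hqp.ne_top)
      (fun i hi => absurd hi (Nat.not_lt_zero i)) hc0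
    exact hx (hle hxI)
  obtain ⟨m, P, hP⟩ := hrad
  refine ⟨m, fun n => ?_⟩
  induction n with
  | zero => intro z hz; rw [show z = 0 from hz, smul_zero]
  | succ n ih =>
    intro z hz
    have h1 : f ^ (m * n) • φ z = 0 := ih _ (by rwa [pow_succ, Module.End.mul_apply] at hz)
    have h2 : f ^ m • z = aeval φ P (φ z) := by
      have := LinearMap.congr_fun hP z
      rw [pow_zero, zero_add, pow_one, (commute_aeval φ P).eq] at this
      exact this
    rw [Nat.mul_succ, pow_add, mul_smul, h2, ← map_smul, h1, map_zero]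

theorem cartan_regular_local [Module.Finite A L] [Module.Projective A L]
    (H : LieSubalgebra A L) (hH : SGA3t2b.IsCartanRel H) (p : PrimeSpectrum A)
    (hp : Infinite p.asIdeal.ResidueField) :
    ∃ f : A, f ∉ p.asIdeal ∧ ∃ a : L, a ∈ H ∧
      (∀ q : PrimeSpectrum A, f ∉ q.asIdeal →
        LieAlgebra.IsRegular q.asIdeal.ResidueField ((1 : q.asIdeal.ResidueField) ⊗ₜ[A] a)) ∧
      H ≤ LieSubalgebra.engel A a ∧
      ∀ y : L, y ∈ LieSubalgebra.engel A a → ∃ n : ℕ, f ^ n • y ∈ H := by
  obtain ⟨a, haH, hreg⟩ := cartan_regular_section hH p hp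
  obtain ⟨_, ⟨f, rfl⟩, hpf, hf⟩ := PrimeSpectrum.isTopologicalBasis_basic_opens.exists_subset_of_mem_open
    (show p ∈ _ from hreg) (isOpen_isRegular (rank_locallyConstant' hH) a)
  obtain ⟨N, hN⟩ := exists_pow_eq_zero hH
  haveI := hH.1
  obtain ⟨m, hm⟩ := exists_pow_smul_kills (quotMap H haH) f fun q hq => quotMap_injective hH haH q (hf hq)
  refine ⟨f, hpf, a, haH, fun q hq => hf hq, fun x hx => (LieSubalgebra.mem_engel_iff A a x).2 ⟨N, hN a haH x hx⟩,
    fun y hy => ?_⟩
  obtain ⟨n, hn⟩ := (LieSubalgebra.mem_engel_iff A a y).1 hy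
  refine ⟨m * n, (Submodule.Quotient.mk_eq_zero H.toSubmodule).1 ?_⟩
  rw [Submodule.Quotient.mk_smul]
  refine hm n (H.toSubmodule.mkQ y) ?_
  rw [quotMap_pow, hn, map_zero]

theorem exists_cartan_away [Module.Finite A L] [Module.Projective A L]
    (hC2 : ((∀ p : PrimeSpectrum A, ∃ f : A, f ∉ p.asIdeal ∧ ∀ q : PrimeSpectrum A, f ∉ q.asIdeal →
        LieAlgebra.rank q.asIdeal.ResidueField (q.asIdeal.ResidueField ⊗[A] L) =
          LieAlgebra.rank p.asIdeal.ResidueField (p.asIdeal.ResidueField ⊗[A] L)) ∧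
      ∀ (A' : Type u) [CommRing A'] [Algebra A A'] (a' : A' ⊗[A] L),
        SGA3t2b.IsQuasiRegular A' (A' ⊗[A] L) a' → SGA3t2b.IsRegularRel A' (A' ⊗[A] L) a'))
    (p : PrimeSpectrum A)
    (hp : ∃ x : p.asIdeal.ResidueField ⊗[A] L, LieAlgebra.IsRegular p.asIdeal.ResidueField x) :
    ∃ f : A, f ∉ p.asIdeal ∧
      ∃ H : LieSubalgebra (Localization.Away f) (Localization.Away f ⊗[A] L), SGA3t2b.IsCartanRel H := by
  obtain ⟨x, hx⟩ := hp
  obtain ⟨a, ha⟩ := exists_section_of_regular p hx
  obtain ⟨_, ⟨f, rfl⟩, hpf, hf⟩ := PrimeSpectrum.isTopologicalBasis_basic_opens.exists_subset_of_mem_open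
    (show p ∈ _ from ha) (isOpen_isRegular hC2.1 a)
  obtain ⟨-, H, hH, -⟩ := hC2.2 (Localization.Away f) ((1 : Localization.Away f) ⊗ₜ[A] a) fun q => by
    refine (isRegular_fibre_baseChange (Localization.Away f) q a).2 (hf fun hfq => ?_)
    exact q.2.ne_top (Ideal.eq_top_of_isUnit_mem _ hfq (IsLocalization.Away.algebraMap_isUnit f))
  exact ⟨f, hpf, H, hH⟩

theorem exists_cartan_etale [Module.Finite A L] [Module.Projective A L]
    (hC2 : ((∀ p : PrimeSpectrum A, ∃ f : A, f ∉ p.asIdeal ∧ ∀ q : PrimeSpectrum A, f ∉ q.asIdeal →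
        LieAlgebra.rank q.asIdeal.ResidueField (q.asIdeal.ResidueField ⊗[A] L) =
          LieAlgebra.rank p.asIdeal.ResidueField (p.asIdeal.ResidueField ⊗[A] L)) ∧
      ∀ (A' : Type u) [CommRing A'] [Algebra A A'] (a' : A' ⊗[A] L),
        SGA3t2b.IsQuasiRegular A' (A' ⊗[A] L) a' → SGA3t2b.IsRegularRel A' (A' ⊗[A] L) a'))
    (hreg : ∀ p : PrimeSpectrum A, ∃ x : p.asIdeal.ResidueField ⊗[A] L, LieAlgebra.IsRegular p.asIdeal.ResidueField x) :
    ∃ (A' : Type u) (_ : CommRing A') (_ : Algebra A A'), Algebra.Etale A A' ∧ Module.FaithfullyFlat A A' ∧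
        ∃ H : LieSubalgebra A' (A' ⊗[A] L), SGA3t2b.IsCartanRel H := by
  classical
  have h : ∀ p : PrimeSpectrum A, ∃ (a : L) (f : A), f ∉ p.asIdeal ∧ ∀ q : PrimeSpectrum A, f ∉ q.asIdeal →
      LieAlgebra.IsRegular q.asIdeal.ResidueField ((1 : q.asIdeal.ResidueField) ⊗ₜ[A] a) := fun p => by
    obtain ⟨x, hx⟩ := hreg p
    obtain ⟨a, ha⟩ := exists_section_of_regular p hx
    obtain ⟨_, ⟨f, rfl⟩, hpf, hf⟩ := PrimeSpectrum.isTopologicalBasis_basic_opens.exists_subset_of_mem_open
      (show p ∈ _ from ha) (isOpen_isRegular hC2.1 a)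
    exact ⟨a, f, hpf, fun q hq => hf hq⟩
  choose a f hpf hf using h
  obtain ⟨s, hs⟩ := isCompact_univ.elim_finite_subcover (fun p => (PrimeSpectrum.basicOpen (f p) : Set (PrimeSpectrum A)))
    (fun p => (PrimeSpectrum.basicOpen (f p)).isOpen) (fun p _ => Set.mem_iUnion.2 ⟨p, hpf p⟩)
  let B : s → Type u := fun i => Localization.Away (f i.1)
  haveI : Algebra.Etale A (Π i, B i) := inferInstance
  refine ⟨Π i, B i, inferInstance, inferInstance, inferInstance, ?_, ?_⟩
  · refine Module.FaithfullyFlat.of_comap_surjective fun p => ?_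
    have := hs (Set.mem_univ p)
    simp only [Set.mem_iUnion] at this
    obtain ⟨i, hi, hpi⟩ := this
    obtain ⟨Q, hQ⟩ : p ∈ Set.range (PrimeSpectrum.comap (algebraMap A (B ⟨i, hi⟩))) := by
      rw [PrimeSpectrum.localization_away_comap_range (B ⟨i, hi⟩) (f i)]
      exact hpi
    exact ⟨PrimeSpectrum.comap (Pi.evalRingHom B ⟨i, hi⟩) Q, by rw [← hQ]; rfl⟩
  · obtain ⟨-, H, hH, -⟩ := hC2.2 (Π i, B i) (∑ i : s, (Pi.single i 1 : Π j, B j) ⊗ₜ[A] a i.1) fun q => by
      obtain ⟨j, hj⟩ : ∃ j : s, (Pi.single j 1 : Π i, B i) ∉ q.asIdeal := by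
        by_contra hcon
        push Not at hcon
        refine q.2.ne_top ((Ideal.eq_top_iff_one _).2 ?_)
        rw [← Finset.univ_sum_single (1 : Π i, B i)]
        exact Ideal.sum_mem _ fun i _ => hcon i
      have hfj : f j.1 ∉ (PrimeSpectrum.comap (algebraMap A (Π i, B i)) q).asIdeal := fun hmem => by
        obtain ⟨v, hv⟩ := (IsLocalization.Away.algebraMap_isUnit (S := B j) (f j.1)).exists_right_inv
        refine hj ?_
        have : (Pi.single j 1 : Π i, B i) = Pi.single j v * algebraMap A (Π i, B i) (f j.1) := by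
          ext i
          rcases eq_or_ne i j with rfl | hij
          · simp [mul_comm v, hv]
          · simp [hij]
        rw [this]
        exact q.asIdeal.mul_mem_left _ hmem
      let κ := q.asIdeal.ResidueField
      let e : s → κ := fun i => algebraMap (Π i, B i) κ (Pi.single i 1)
      have he0 : ∀ i, i ≠ j → e i = 0 := fun i hij => by
        refine Ideal.algebraMap_residueField_eq_zero.2 ((q.2.mem_or_mem ?_).resolve_right hj)
        convert q.asIdeal.zero_mem
        ext l
        rcases eq_or_ne l j with rfl | hlj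
        · simp [hij.symm]
        · simp [hlj]
      have he1 : e j = 1 := by
        have h1 : e j * e j = e j * 1 := by
          rw [mul_one, ← map_mul, ← Pi.single_mul, one_mul]
        exact mul_left_cancel₀ (fun h0 => hj (Ideal.algebraMap_residueField_eq_zero.1 h0)) h1
      have key : ((1 : κ) ⊗ₜ[Π i, B i] (∑ i : s, (Pi.single i 1 : Π j, B j) ⊗ₜ[A] a i.1)) =
          (1 : κ) ⊗ₜ[Π i, B i] ((1 : Π i, B i) ⊗ₜ[A] a j.1) := by
        have h1 : ∀ i : s, (1 : κ) ⊗ₜ[Π i, B i] ((Pi.single i 1 : Π j, B j) ⊗ₜ[A] a i.1) =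
            e i • ((1 : κ) ⊗ₜ[Π i, B i] ((1 : Π i, B i) ⊗ₜ[A] a i.1)) := fun i => by
          rw [show (Pi.single i 1 : Π j, B j) ⊗ₜ[A] a i.1 = (Pi.single i 1 : Π j, B j) • ((1 : Π j, B j) ⊗ₜ[A] a i.1)
            by rw [TensorProduct.smul_tmul', smul_eq_mul, mul_one], TensorProduct.tmul_smul, ← algebraMap_smul κ]
        rw [TensorProduct.tmul_sum, Finset.sum_eq_single j (fun i _ hij => by rw [h1, he0 i hij, zero_smul])
          (fun hj' => absurd (Finset.mem_univ j) hj'), h1, he1, one_smul]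
      show LieAlgebra.IsRegular κ _
      rw [key]
      exact (isRegular_fibre_baseChange (Π i, B i) q (a j.1)).2 (hf j.1 _ hfj)
    exact ⟨H, hH⟩

end Groth.Agent.LieNil20
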