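import Mathlib

/-!
# Fibrewise nilpotent Lie algebras are nilpotent
-/

universe u

open TensorProduct LieModule
open scoped Pointwise

set_option backward.isDefEq.respectTransparency false
set_option linter.style.haveILetI false

attribute [local instance 100] LieRing.ofAssociativeRing

namespace Groth.Agent.LieNil20

variable {A : Type u} [CommRing A] {L : Type u} [LieRing L] [LieAlgebra A L]

/-- The lower central series, as submodules. -/
def C (A : Type u) [CommRing A] (L : Type u) [LieRing L] [LieAlgebra A L] (k : ℕ) : Submodule A L :=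
  (lowerCentralSeries A L L k).toSubmodule

theorem C_zero : C A L 0 = ⊤ := by simp [C]

theorem C_succ (k : ℕ) :
    C A L (k + 1) = Submodule.map₂ (LieModule.toEnd A L L).toLinearMap ⊤ (C A L k) := by
  rw [C, LieModule.lowerCentralSeries_succ, LieSubmodule.lieIdeal_oper_eq_linear_span']
  refine le_antisymm (Submodule.span_le.2 ?_) (Submodule.map₂_le.2 ?_)
  · rintro _ ⟨x, -, n, hn, rfl⟩
    exact Submodule.apply_mem_map₂ (LieModule.toEnd A L L).toLinearMap Submodule.mem_top hn
  · intro x _ n hn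
    exact Submodule.subset_span ⟨x, LieSubmodule.mem_top x, n, hn, rfl⟩

theorem C_fg [Module.Finite A L] : ∀ k, (C A L k).FG
  | 0 => C_zero (A := A) (L := L) ▸ Module.Finite.fg_top
  | k + 1 => C_succ (A := A) (L := L) k ▸ Submodule.FG.map₂ _ Module.Finite.fg_top (C_fg k)

theorem C_add (J : Ideal A) (k : ℕ) (h : C A L k ≤ J • ⊤) : ∀ l, C A L (k + l) ≤ J • C A L l
  | 0 => by rw [Nat.add_zero, C_zero]; exact h
  | l + 1 => by
    rw [← Nat.add_assoc, C_succ, C_succ]
    refine Submodule.map₂_le.2 fun x _ n hn => ?_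
    refine Submodule.smul_induction_on (p := fun n => (LieModule.toEnd A L L).toLinearMap x n ∈ _)
      (C_add J k h l hn) (fun r hr m hm => ?_) fun a b ha hb => ?_
    · rw [map_smul]
      exact Submodule.smul_mem_smul hr (Submodule.apply_mem_map₂ _ Submodule.mem_top hm)
    · rw [map_add]
      exact add_mem ha hb

/-- The residue field is the localization of the quotient by the prime. -/
theorem isLocalizedModule_quotient (p : Ideal A) [p.IsPrime] :
    IsLocalizedModule p.primeCompl (IsScalarTower.toAlgHom A (A ⧸ p) p.ResidueField).toLinearMap where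
  map_units s := by
    have hu : IsUnit (algebraMap A p.ResidueField s) := by
      refine isUnit_iff_ne_zero.2 fun h => s.2 ?_
      exact Ideal.algebraMap_residueField_eq_zero.1 h
    rw [Module.End.isUnit_iff]
    constructor
    · intro a b hab
      simp only [Module.algebraMap_end_apply, Algebra.smul_def] at hab
      exact hu.mul_left_cancel hab
    · intro b
      obtain ⟨v, hv⟩ := hu.exists_right_inv
      exact ⟨v * b, by rw [Module.algebraMap_end_apply, Algebra.smul_def, ← mul_assoc, hv, one_mul]⟩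
  surj y := by
    obtain ⟨a, b, hb, rfl⟩ := IsFractionRing.div_surjective (A ⧸ p) y
    obtain ⟨b, rfl⟩ := Ideal.Quotient.mk_surjective b
    have hbp : b ∉ p := fun h => nonZeroDivisors.ne_zero hb (Ideal.Quotient.eq_zero_iff_mem.2 h)
    refine ⟨⟨a, b, hbp⟩, ?_⟩
    have hne : algebraMap (A ⧸ p) p.ResidueField (Ideal.Quotient.mk p b) ≠ 0 := fun h =>
      nonZeroDivisors.ne_zero hb ((map_eq_zero_iff _ p.injective_algebraMap_quotient_residueField).1 h)
    show (b : A) • _ = algebraMap (A ⧸ p) p.ResidueField a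
    rw [Algebra.smul_def, IsScalarTower.algebraMap_apply A (A ⧸ p) p.ResidueField, Ideal.Quotient.algebraMap_eq,
      mul_div_cancel₀ _ hne]
  exists_of_eq {x y} h := ⟨1, by rw [p.injective_algebraMap_quotient_residueField h]⟩

theorem exists_smul_mem_of_tmul_eq_zero {M : Type u} [AddCommGroup M] [Module A M] (p : Ideal A) [p.IsPrime] {y : M}
    (hy : (1 : p.ResidueField) ⊗ₜ[A] y = 0) : ∃ s ∉ p, s • y ∈ p • (⊤ : Submodule A M) := by
  haveI := isLocalizedModule_quotient p
  let f := TensorProduct.AlgebraTensorModule.rTensor A M (IsScalarTower.toAlgHom A (A ⧸ p) p.ResidueField).toLinearMap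
  haveI : IsLocalizedModule p.primeCompl f := IsLocalizedModule.rTensor (R := A) (A := A) (N := M) p.primeCompl _
  have h0 : f ((1 : A ⧸ p) ⊗ₜ[A] y) = f 0 := by
    rw [map_zero, ← hy]
    simp [f]
  obtain ⟨s, hs⟩ := IsLocalizedModule.exists_of_eq (S := p.primeCompl) h0
  refine ⟨s, s.2, ?_⟩
  rw [smul_zero] at hs
  have := congrArg (TensorProduct.quotTensorEquivQuotSMul M p) hs
  rw [Submonoid.smul_def, map_smul, map_zero, ← map_one (Ideal.Quotient.mk p),
    TensorProduct.quotTensorEquivQuotSMul_mk_tmul, one_smul, ← Submodule.Quotient.mk_smul] at this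
  exact (Submodule.Quotient.mk_eq_zero _).1 this

/-- A finite Lie algebra all of whose fibres are nilpotent is nilpotent. -/
theorem isNilpotent_of_fibres [Module.Finite A L]
    (h : ∀ p : PrimeSpectrum A, LieRing.IsNilpotent (p.asIdeal.ResidueField ⊗[A] L)) :
    LieRing.IsNilpotent L := by
  classical
  by_contra hL
  let bad : Set (Ideal A) := {I | ∀ k, ¬ C A L k ≤ I • ⊤}
  have h0 : (⊥ : Ideal A) ∈ bad := fun k hk => hL <| by
    show LieModule.IsNilpotent L L
    rw [LieModule.isNilpotent_iff A]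
    refine ⟨k, ?_⟩
    rw [← LieSubmodule.toSubmodule_inj, LieSubmodule.bot_toSubmodule, eq_bot_iff]
    simpa [C] using hk
  obtain ⟨m, -, hm, hmax⟩ := zorn_le_nonempty₀ bad (fun c hc hchain I hI => by
    refine ⟨sSup c, fun k hk => ?_, fun z hz => le_sSup hz⟩
    have hdir : DirectedOn (· ≤ ·) c := hchain.directedOn
    have e : (sSup c) • (⊤ : Submodule A L) = ⨆ J : c, (J : Ideal A) • (⊤ : Submodule A L) := by
      rw [sSup_eq_iSup', Submodule.iSup_smul]
    obtain ⟨s, hs⟩ := C_fg (A := A) (L := L) k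
    haveI : Nonempty c := ⟨⟨I, hI⟩⟩
    have hd : Directed (· ≤ ·) fun J : c => (J : Ideal A) • (⊤ : Submodule A L) := fun J K => by
      obtain ⟨M, hM, hJ, hK⟩ := hdir _ J.2 _ K.2
      exact ⟨⟨M, hM⟩, Submodule.smul_mono_left hJ, Submodule.smul_mono_left hK⟩
    have hsub : ∀ z ∈ s, ∃ J : c, z ∈ (J : Ideal A) • (⊤ : Submodule A L) := fun z hz => by
      have := hk (hs ▸ Submodule.subset_span hz)
      rw [e, Submodule.mem_iSup_of_directed _ hd] at this
      exact this
    choose J hJ using hsub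
    obtain ⟨M, hM⟩ := hd.finset_le (s.attach.image fun z : {x // x ∈ s} => J z.1 z.2)
    refine hc M.2 k ?_
    rw [← hs, Submodule.span_le]
    intro z hz
    exact hM _ (Finset.mem_image.2 ⟨⟨z, hz⟩, Finset.mem_attach _ _, rfl⟩) (hJ z hz)) ⊥ h0
  have hext : ∀ a, a ∉ m → ∃ k, C A L k ≤ (m ⊔ Ideal.span {a}) • ⊤ := fun a ha => by
    by_contra hb
    push Not at hb
    exact ha (hmax hb le_sup_left (Ideal.mem_sup_right (Ideal.mem_span_singleton_self a)))
  have hmne : m ≠ ⊤ := fun e => hm 0 (by rw [e, Submodule.top_smul]; exact le_top)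
  haveI hp : m.IsPrime := by
    refine ⟨hmne, fun {a b} hab => ?_⟩
    by_contra hc
    push Not at hc
    obtain ⟨k, hk⟩ := hext a hc.1
    obtain ⟨l, hl⟩ := hext b hc.2
    refine hm (k + l) ((C_add _ k hk l).trans ((Submodule.smul_mono le_rfl hl).trans ?_))
    rw [← Submodule.mul_smul]
    refine Submodule.smul_mono_left ?_
    rw [Ideal.sup_mul, Ideal.mul_sup, Ideal.mul_sup, Ideal.span_singleton_mul_span_singleton]
    exact sup_le (sup_le (Ideal.mul_le_right) (Ideal.mul_le_left))
      (sup_le (Ideal.mul_le_right) ((Ideal.span_singleton_le_iff_mem _).2 hab))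
  have hf : LieModule.IsNilpotent (m.ResidueField ⊗[A] L) (m.ResidueField ⊗[A] L) := h ⟨m, hp⟩
  obtain ⟨n, hn⟩ := (LieModule.isNilpotent_iff m.ResidueField _ _).1 hf
  rw [LieSubmodule.lowerCentralSeries_tensor_eq_baseChange] at hn
  obtain ⟨s, hs⟩ := C_fg (A := A) (L := L) n
  have hy : ∀ y ∈ C A L n, ∃ a ∉ m, a • y ∈ m • (⊤ : Submodule A L) := fun y hy =>
    exists_smul_mem_of_tmul_eq_zero m ((LieSubmodule.mem_bot _).1
      (hn ▸ LieSubmodule.tmul_mem_baseChange_of_mem 1 hy))
  choose! a ha haL using hy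
  have hsC : ∀ z ∈ s, z ∈ C A L n := fun z hz => hs ▸ Submodule.subset_span hz
  obtain ⟨b, hb, hbL⟩ : ∃ b ∉ m, ∀ y ∈ C A L n, b • y ∈ m • (⊤ : Submodule A L) := by
    refine ⟨∏ z ∈ s, a z, fun hmem => ?_, fun y hy => ?_⟩
    · obtain ⟨z, hz, hzm⟩ := (Ideal.IsPrime.prod_mem_iff (p := m)).1 hmem
      exact ha z (hsC z hz) hzm
    · refine Submodule.span_induction (p := fun y _ => (∏ z ∈ s, a z) • y ∈ m • (⊤ : Submodule A L))
        (fun z hz => ?_) (by simp) (fun x y _ _ hx hy => by rw [smul_add]; exact add_mem hx hy)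
        (fun r x _ hx => by rw [smul_comm]; exact Submodule.smul_mem _ r hx) (hs ▸ hy)
      rw [← Finset.prod_erase_mul s a hz, mul_smul]
      exact Submodule.smul_mem _ _ (haL z (hsC z hz))
  obtain ⟨k, hk⟩ := hext b hb
  refine hm (k + n) ((C_add _ k hk n).trans ?_)
  rw [Submodule.sup_smul]
  refine sup_le (Submodule.smul_mono le_rfl le_top) (Submodule.smul_le.2 fun r hr y hy => ?_)
  obtain ⟨c, rfl⟩ := Ideal.mem_span_singleton'.1 hr
  rw [mul_smul]
  exact Submodule.smul_mem _ c (hbL y hy)

/-- A finite Lie algebra all of whose elements are ad-nilpotent is nilpotent. -/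
theorem isNilpotent_of_forall_ad [Module.Finite A L]
    (h : ∀ x : L, IsNilpotent (LieAlgebra.ad A L x)) : LieRing.IsNilpotent L := by
  refine isNilpotent_of_fibres (A := A) fun p => ?_
  rw [LieAlgebra.isNilpotent_iff_forall (R := p.asIdeal.ResidueField)]
  intro y
  obtain ⟨c, x, rfl⟩ : ∃ (c : p.asIdeal.ResidueField) (x : L), y = c • ((1 : p.asIdeal.ResidueField) ⊗ₜ[A] x) := by
    haveI := isLocalizedModule_quotient p.asIdeal
    let f := TensorProduct.AlgebraTensorModule.rTensor A L
      (IsScalarTower.toAlgHom A (A ⧸ p.asIdeal) p.asIdeal.ResidueField).toLinearMap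
    haveI : IsLocalizedModule p.asIdeal.primeCompl f :=
      IsLocalizedModule.rTensor (R := A) (A := A) (N := L) p.asIdeal.primeCompl _
    obtain ⟨⟨z, s⟩, hz⟩ := IsLocalizedModule.surj p.asIdeal.primeCompl f y
    obtain ⟨x, hx⟩ : ∃ x : L, z = (1 : A ⧸ p.asIdeal) ⊗ₜ[A] x := by
      clear hz
      induction z using TensorProduct.induction_on with
      | zero => exact ⟨0, by simp⟩
      | tmul a x =>
        obtain ⟨a, rfl⟩ := Ideal.Quotient.mk_surjective a
        exact ⟨a • x, by rw [← TensorProduct.smul_tmul, ← Ideal.Quotient.algebraMap_eq, Algebra.smul_def, mul_one]⟩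
      | add u v hu hv =>
        obtain ⟨x, rfl⟩ := hu
        obtain ⟨x', rfl⟩ := hv
        exact ⟨x + x', by rw [TensorProduct.tmul_add]⟩
    refine ⟨(algebraMap A p.asIdeal.ResidueField s)⁻¹, x, ?_⟩
    have hs : algebraMap A p.asIdeal.ResidueField s ≠ 0 := fun e =>
      s.2 (Ideal.algebraMap_residueField_eq_zero.1 e)
    have hz' : (s : A) • y = (1 : p.asIdeal.ResidueField) ⊗ₜ[A] x := by
      rw [← Submonoid.smul_def, hz, hx]
      simp [f]
    rw [← hz', ← IsScalarTower.algebraMap_smul p.asIdeal.ResidueField (s : A) y, smul_smul,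
      inv_mul_cancel₀ hs, one_smul]
  rw [map_smul]
  refine IsNilpotent.smul ?_ c
  have e : LieAlgebra.ad p.asIdeal.ResidueField (p.asIdeal.ResidueField ⊗[A] L) ((1 : p.asIdeal.ResidueField) ⊗ₜ[A] x) =
      (LieAlgebra.ad A L x).baseChange p.asIdeal.ResidueField := LieModule.toEnd_baseChange A p.asIdeal.ResidueField L L x
  rw [e]
  exact (h x).map (Module.End.baseChangeHom A p.asIdeal.ResidueField L)

end Groth.Agent.LieNil20
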