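import Groth.Agent.Lib.LieNil20.Engel

/-!
# Cartan subalgebras containing a quasi-regular element
-/

universe u

open TensorProduct LieModule Module

set_option backward.isDefEq.respectTransparency false
set_option linter.style.haveILetI false

attribute [local instance 100] LieRing.ofAssociativeRing

namespace Groth.Agent.LieNil20

variable {A : Type u} [CommRing A] {L : Type u} [LieRing L] [LieAlgebra A L] [Module.Finite A L]
  [Module.Projective A L] {H : LieSubalgebra A L} (hH : SGA3t2b.IsCartanRel H)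

include hH in
theorem quotMap_injective {a : L} (haH : a ∈ H) (p : PrimeSpectrum A)
    (ha : LieAlgebra.IsRegular p.asIdeal.ResidueField ((1 : p.asIdeal.ResidueField) ⊗ₜ[A] a)) :
    Function.Injective ((quotMap H haH).baseChange p.asIdeal.ResidueField) := by
  obtain ⟨N, hN⟩ := exists_pow_eq_zero hH
  let κ := p.asIdeal.ResidueField
  let a' : κ ⊗[A] L := (1 : κ) ⊗ₜ[A] a
  let D := LieAlgebra.ad κ (κ ⊗[A] L) a'
  have eD : D = (LieAlgebra.ad A L a).baseChange κ := LieModule.toEnd_baseChange A κ L L a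
  have hker : ∀ z ∈ SGA3t2b.fibreSubmodule p H, (D ^ N) z = 0 := by
    rintro z ⟨w, rfl⟩
    rw [eD, show ((LieAlgebra.ad A L a).baseChange κ) ^ N = ((LieAlgebra.ad A L a) ^ N).baseChange κ from
      (map_pow (Module.End.baseChangeHom A κ L) (LieAlgebra.ad A L a) N).symm, ← LinearMap.comp_apply,
      ← LinearMap.baseChange_comp, show ((LieAlgebra.ad A L a) ^ N) ∘ₗ H.toSubmodule.subtype = 0 from
        LinearMap.ext fun y => hN a haH y y.2, LinearMap.baseChange_zero, LinearMap.zero_apply]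
  have heq : SGA3t2b.fibreSubmodule p H = (LieSubalgebra.engel κ a').toSubmodule :=
    Submodule.eq_of_le_of_finrank_eq (fun z hz => (LieSubalgebra.mem_engel_iff κ a' z).2 ⟨N, hker z hz⟩)
      ((hH.2 p).2.2.trans ((LieAlgebra.isRegular_iff_finrank_engel_eq_rank κ a').1 ha).symm)
  rw [injective_iff_map_eq_zero]
  intro z hz
  obtain ⟨z, rfl⟩ := LinearMap.lTensor_surjective κ (Submodule.mkQ_surjective H.toSubmodule) z
  have e1 : H.toSubmodule.mkQ.baseChange κ (D z) = (quotMap H haH).baseChange κ (H.toSubmodule.mkQ.baseChange κ z) := by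
    rw [eD, ← LinearMap.comp_apply, ← LinearMap.comp_apply, ← LinearMap.baseChange_comp, ← LinearMap.baseChange_comp]
    rfl
  have hex := lTensor_exact κ (LinearMap.exact_subtype_mkQ _) (Submodule.mkQ_surjective H.toSubmodule)
  obtain ⟨w, hw⟩ := (hex (D z)).1 (e1.trans hz)
  have hz' : z ∈ SGA3t2b.fibreSubmodule p H := by
    rw [heq]
    refine (LieSubalgebra.mem_engel_iff κ a' z).2 ⟨N + 1, ?_⟩
    rw [pow_succ, Module.End.mul_apply]
    exact hker _ ⟨w, hw⟩
  obtain ⟨v, rfl⟩ := hz'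
  exact (hex _).2 ⟨v, rfl⟩

include hH in
theorem eq_engel {a : L} (haH : a ∈ H) (ha : SGA3t2b.IsQuasiRegular A L a) : H = LieSubalgebra.engel A a := by
  obtain ⟨N, hN⟩ := exists_pow_eq_zero hH
  refine LieSubalgebra.ext _ _ fun x => ⟨fun hx => (LieSubalgebra.mem_engel_iff A a x).2 ⟨N, hN a haH x hx⟩, fun hx => ?_⟩
  obtain ⟨n, hn⟩ := (LieSubalgebra.mem_engel_iff A a x).1 hx
  exact mem_of_pow_eq_zero hH haH ha hn

include hH in
theorem quotMap_bijective {a : L} (haH : a ∈ H) (ha : SGA3t2b.IsQuasiRegular A L a) :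
    Function.Bijective (quotMap H haH) := by
  haveI := hH.1
  exact bijective_of_fibrewise_injective _ fun p => quotMap_injective hH haH p (ha p)

theorem quasiRegular_iff {a : L} (ha : SGA3t2b.IsQuasiRegular A L a) :
    (∀ H : LieSubalgebra A L, SGA3t2b.IsCartanRel H → a ∈ H → H = LieSubalgebra.engel A a) ∧
    ((∃ H : LieSubalgebra A L, SGA3t2b.IsCartanRel H ∧ a ∈ H) ↔
      (Module.Projective A (L ⧸ (LieSubalgebra.engel A a).toSubmodule) ∧
        (∀ z : L, ⁅a, z⁆ ∈ LieSubalgebra.engel A a → z ∈ LieSubalgebra.engel A a) ∧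
        (∀ y : L, ∃ z : L, ⁅a, z⁆ - y ∈ LieSubalgebra.engel A a))) := by
  refine ⟨fun H hH haH => eq_engel hH haH ha, fun ⟨H, hH, haH⟩ => ?_, fun ⟨h1, h2, h3⟩ =>
    ⟨_, isCartanRel_engel ha h1 h2 h3, LieSubalgebra.self_mem_engel A a⟩⟩
  obtain rfl := eq_engel hH haH ha
  have hb := quotMap_bijective hH haH ha
  refine ⟨hH.1, fun z hz => ?_, fun y => ?_⟩
  · refine (Submodule.Quotient.mk_eq_zero (LieSubalgebra.engel A a).toSubmodule).1 (hb.1 ?_)
    rw [map_zero]
    exact (Submodule.Quotient.mk_eq_zero _).2 hz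
  · obtain ⟨z, hz⟩ := hb.2 ((LieSubalgebra.engel A a).toSubmodule.mkQ y)
    obtain ⟨z, rfl⟩ := Submodule.mkQ_surjective _ z
    exact ⟨z, (Submodule.Quotient.eq _).1 hz⟩

end Groth.Agent.LieNil20
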