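import Groth.Agent.Lib.LieNil20.Regular
import Groth.Prelude.Def_W4sga3xiixivxvCartan

/-!
# The rank of a Lie algebra under field extensions
-/

universe u

open TensorProduct LieModule Module

set_option backward.isDefEq.respectTransparency false
set_option linter.style.haveILetI false

attribute [local instance 100] LieRing.ofAssociativeRing

namespace Groth.Agent.LieNil20

/-- The rank is unchanged by extension of the base field. -/
theorem rank_eq_of_semilinear {k K : Type u} [Field k] [Field K] (f : k →+* K)
    {g h : Type u} [LieRing g] [LieAlgebra k g] [Module.Finite k g] [LieRing h] [LieAlgebra K h] [Module.Finite K h]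
    {ι : Type*} [Fintype ι] [DecidableEq ι] (b : Basis ι k g) (b' : Basis ι K h) (j : g →+ h)
    (hj : ∀ i, j (b i) = b' i) (hsmul : ∀ (c : k) x, j (c • x) = f c • j x)
    (hlie : ∀ x y, j ⁅x, y⁆ = ⁅j x, j y⁆) :
    LieAlgebra.rank K h = LieAlgebra.rank k g := by
  have hrepr : ∀ x i, b'.repr (j x) i = f (b.repr x i) := fun x i => by
    have e : j x = ∑ l, f (b.repr x l) • b' l := by
      rw [show j x = j (∑ l, b.repr x l • b l) by rw [b.sum_repr], map_sum]
      simp [hsmul, hj]
    rw [e, b'.repr_sum_self]
  let φ := (LieAlgebra.ad k g).toLinearMap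
  let φ' := (LieAlgebra.ad K h).toLinearMap
  have hmat : LinearMap.toMatrix b' b'.end φ' = (LinearMap.toMatrix b b.end φ).map f := by
    ext ij l
    obtain ⟨i, i'⟩ := ij
    rw [Matrix.map_apply, LinearMap.toMatrix_apply, LinearMap.toMatrix_apply]
    simp only [φ, φ', Module.Basis.end, Basis.map_repr, LinearEquiv.trans_apply, LinearEquiv.symm_symm]
    simp [Matrix.stdBasis, LinearMap.toMatrix_apply, ← hrepr, hlie, hj]
  have hpoly : LinearMap.polyCharpoly φ' b' =
      (LinearMap.polyCharpoly φ b).map (MvPolynomial.map f) := by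
    rw [LinearMap.polyCharpoly_eq_of_basis φ' b' b', LinearMap.polyCharpoly_eq_of_basis φ b b,
      ← Matrix.charpoly.univ_map_map ι f, Polynomial.map_map, Polynomial.map_map]
    congr 1
    refine RingHom.ext fun p => ?_
    have e : ∀ l, φ'.toMvPolynomial b' b'.end l = MvPolynomial.map f (φ.toMvPolynomial b b.end l) := fun l => by
      simp only [LinearMap.toMvPolynomial, hmat, Matrix.toMvPolynomial_map]
    simp only [RingHom.coe_comp, Function.comp_apply, RingHom.coe_coe, MvPolynomial.map_bind₁]
    rw [show φ'.toMvPolynomial b' b'.end = fun l => MvPolynomial.map f (φ.toMvPolynomial b b.end l) from funext e]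
  rw [LieAlgebra.rank_eq_natTrailingDegree K h b', LieAlgebra.rank_eq_natTrailingDegree k g b, hpoly]
  have hi := MvPolynomial.map_injective (σ := ι) f f.injective
  refine le_antisymm (Polynomial.natTrailingDegree_le_of_ne_zero ?_) ?_
  · rw [Polynomial.coeff_map, ne_eq, map_eq_zero_iff _ hi]
    exact Polynomial.trailingCoeff_nonzero_iff_nonzero.2 (LinearMap.polyCharpoly_ne_zero _ _)
  · refine Polynomial.le_natTrailingDegree ?_ fun m hm => ?_
    · exact (Polynomial.map_ne_zero_iff hi).2 (LinearMap.polyCharpoly_ne_zero _ _)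
    · rw [Polynomial.coeff_map, Polynomial.coeff_eq_zero_of_lt_natTrailingDegree hm, map_zero]

theorem charpoly_ad_of_semilinear {k K : Type u} [Field k] [Field K] (f : k →+* K)
    {g h : Type u} [LieRing g] [LieAlgebra k g] [Module.Finite k g] [LieRing h] [LieAlgebra K h] [Module.Finite K h]
    {ι : Type*} [Fintype ι] [DecidableEq ι] (b : Basis ι k g) (b' : Basis ι K h) (j : g →+ h)
    (hj : ∀ i, j (b i) = b' i) (hsmul : ∀ (c : k) x, j (c • x) = f c • j x)
    (hlie : ∀ x y, j ⁅x, y⁆ = ⁅j x, j y⁆) (x : g) :
    (LieAlgebra.ad K h (j x)).charpoly = (LieAlgebra.ad k g x).charpoly.map f := by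
  have hrepr : ∀ x i, b'.repr (j x) i = f (b.repr x i) := fun x i => by
    have e : j x = ∑ l, f (b.repr x l) • b' l := by
      rw [show j x = j (∑ l, b.repr x l • b l) by rw [b.sum_repr], map_sum]
      simp [hsmul, hj]
    rw [e, b'.repr_sum_self]
  rw [← LinearMap.charpoly_toMatrix _ b', ← LinearMap.charpoly_toMatrix _ b, ← Matrix.charpoly_map]
  congr 1
  ext i l
  rw [Matrix.map_apply, LinearMap.toMatrix_apply, LinearMap.toMatrix_apply, ← hrepr, ← hj]
  simp [hlie]

theorem isRegular_of_semilinear {k K : Type u} [Field k] [Field K] (f : k →+* K)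
    {g h : Type u} [LieRing g] [LieAlgebra k g] [Module.Finite k g] [LieRing h] [LieAlgebra K h] [Module.Finite K h]
    {ι : Type*} [Fintype ι] [DecidableEq ι] (b : Basis ι k g) (b' : Basis ι K h) (j : g →+ h)
    (hj : ∀ i, j (b i) = b' i) (hsmul : ∀ (c : k) x, j (c • x) = f c • j x)
    (hlie : ∀ x y, j ⁅x, y⁆ = ⁅j x, j y⁆) (x : g) :
    LieAlgebra.IsRegular K (j x) ↔ LieAlgebra.IsRegular k x := by
  rw [LieAlgebra.isRegular_def, LieAlgebra.isRegular_def, rank_eq_of_semilinear f b b' j hj hsmul hlie,
    charpoly_ad_of_semilinear f b b' j hj hsmul hlie, Polynomial.coeff_map, ne_eq, map_eq_zero_iff _ f.injective]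

/-- A linear isomorphism respecting brackets preserves rank and regular elements. -/
theorem rank_regular_of_equiv {k : Type u} [Field k] {g h : Type u} [LieRing g] [LieAlgebra k g] [Module.Finite k g]
    [LieRing h] [LieAlgebra k h] [Module.Finite k h] (e : g ≃ₗ[k] h) (hlie : ∀ x y, e ⁅x, y⁆ = ⁅e x, e y⁆) :
    LieAlgebra.rank k h = LieAlgebra.rank k g ∧
      ∀ x, LieAlgebra.IsRegular k (e x) ↔ LieAlgebra.IsRegular k x := by
  classical
  let b := Module.Free.chooseBasis k g
  exact ⟨rank_eq_of_semilinear (RingHom.id k) b (b.map e) e.toLinearMap.toAddMonoidHom (fun _ => rfl)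
      (fun c x => map_smul e c x) hlie,
    fun x => isRegular_of_semilinear (RingHom.id k) b (b.map e) e.toLinearMap.toAddMonoidHom (fun _ => rfl)
      (fun c x => map_smul e c x) hlie x⟩

variable {A : Type u} [CommRing A] {L : Type u} [LieRing L] [LieAlgebra A L]

set_option maxHeartbeats 1600000 in
/-- The fibre at a field valued point compared with the fibre at its image. -/
theorem field_fibre [Module.Finite A L] (K : Type u) [Field K] [Algebra A K] (p : PrimeSpectrum A)
    (hp : p.asIdeal = RingHom.ker (algebraMap A K)) :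
    LieAlgebra.rank K (K ⊗[A] L) = LieAlgebra.rank p.asIdeal.ResidueField (p.asIdeal.ResidueField ⊗[A] L) ∧
      ∀ a : L, LieAlgebra.IsRegular K ((1 : K) ⊗ₜ[A] a) ↔
        LieAlgebra.IsRegular p.asIdeal.ResidueField ((1 : p.asIdeal.ResidueField) ⊗ₜ[A] a) := by
  classical
  let κ := p.asIdeal.ResidueField
  let f₀ : κ →ₐ[A] K := Ideal.ResidueField.liftₐ p.asIdeal (Algebra.ofId A K) hp.le (fun x hx => isUnit_iff_ne_zero.2
    fun e => hx (hp ▸ (RingHom.mem_ker.2 e : x ∈ RingHom.ker (algebraMap A K))))
  letI : Algebra κ K := f₀.toRingHom.toAlgebra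
  haveI : IsScalarTower A κ K := IsScalarTower.of_algebraMap_eq fun a => (f₀.commutes a).symm
  let e : K ⊗[κ] (κ ⊗[A] L) ≃ₗ[K] K ⊗[A] L := AlgebraTensorModule.cancelBaseChange A κ K K L
  let b := Module.Free.chooseBasis κ (κ ⊗[A] L)
  let b' := (Algebra.TensorProduct.basis K b).map e
  let j : κ ⊗[A] L →+ K ⊗[A] L :=
    (e.toLinearMap.toAddMonoidHom).comp (TensorProduct.mk κ K (κ ⊗[A] L) 1).toAddMonoidHom
  have hj : ∀ (c : κ) (x : L), j (c ⊗ₜ x) = f₀ c ⊗ₜ x := fun c x => by
    simp [j, e, RingHom.smul_toAlgebra', Algebra.smul_def]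
  have hb : ∀ i, j (b i) = b' i := fun i => by
    show e ((1 : K) ⊗ₜ[κ] b i) = _
    rw [Basis.map_apply, Algebra.TensorProduct.basis_apply]
  have hsmul : ∀ (c : κ) x, j (c • x) = f₀.toRingHom c • j x := fun c x => by
    induction x using TensorProduct.induction_on with
    | zero => rw [smul_zero, map_zero, smul_zero]
    | add a b ha hb => rw [smul_add, map_add, map_add, smul_add, ha, hb]
    | tmul d x =>
      rw [TensorProduct.smul_tmul', hj, hj, TensorProduct.smul_tmul', smul_eq_mul, smul_eq_mul, map_mul]
      rfl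
  have hlie : ∀ x y, j ⁅x, y⁆ = ⁅j x, j y⁆ := fun x y => by
    induction x using TensorProduct.induction_on with
    | zero => rw [zero_lie, map_zero, zero_lie]
    | add a b ha hb => simp only [add_lie, map_add, ha, hb]
    | tmul c x =>
      induction y using TensorProduct.induction_on with
      | zero => rw [lie_zero, map_zero, lie_zero]
      | add a b ha hb => simp only [lie_add, map_add, ha, hb]
      | tmul c' y =>
        rw [hj, hj, LieAlgebra.ExtendScalars.bracket_tmul, LieAlgebra.ExtendScalars.bracket_tmul, hj, map_mul]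
  refine ⟨rank_eq_of_semilinear f₀.toRingHom b b' j hb hsmul hlie, fun a => ?_⟩
  have h1 : j ((1 : κ) ⊗ₜ[A] a) = (1 : K) ⊗ₜ[A] a := by rw [hj, map_one]
  rw [← h1]
  exact isRegular_of_semilinear f₀.toRingHom b b' j hb hsmul hlie _

/-- The two ways of extending scalars along a tower agree. -/
theorem tower_fibre [Module.Finite A L] (A' : Type u) [CommRing A'] [Algebra A A'] (K : Type u) [Field K]
    [Algebra A K] [Algebra A' K] [IsScalarTower A A' K] :
    LieAlgebra.rank K (K ⊗[A'] (A' ⊗[A] L)) = LieAlgebra.rank K (K ⊗[A] L) ∧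
      ∀ z, LieAlgebra.IsRegular K z ↔ LieAlgebra.IsRegular K (AlgebraTensorModule.cancelBaseChange A A' K K L z) := by
  obtain ⟨hr, hreg⟩ := rank_regular_of_equiv (AlgebraTensorModule.cancelBaseChange A A' K K L) fun x y => by
    induction x using TensorProduct.induction_on with
    | zero => simp
    | add a b ha hb => simp only [add_lie, map_add, ha, hb]
    | tmul c w =>
      induction y using TensorProduct.induction_on with
      | zero => simp
      | add a b ha hb => simp only [lie_add, map_add, ha, hb]
      | tmul c' w' =>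
        induction w using TensorProduct.induction_on with
        | zero => simp
        | add a b ha hb => simp only [TensorProduct.tmul_add, add_lie, map_add, ha, hb]
        | tmul d u =>
          induction w' using TensorProduct.induction_on with
          | zero => simp
          | add a b ha hb => simp only [TensorProduct.tmul_add, lie_add, map_add, ha, hb]
          | tmul d' v =>
            simp only [LieAlgebra.ExtendScalars.bracket_tmul, AlgebraTensorModule.cancelBaseChange_tmul,
              Algebra.smul_def, map_mul]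
            congr 1
            ring
  exact ⟨hr.symm, fun z => (hreg z).symm⟩

theorem rank_fibre_baseChange [Module.Finite A L] (A' : Type u) [CommRing A'] [Algebra A A'] (q : PrimeSpectrum A') :
    LieAlgebra.rank q.asIdeal.ResidueField (q.asIdeal.ResidueField ⊗[A'] (A' ⊗[A] L)) =
      LieAlgebra.rank (PrimeSpectrum.comap (algebraMap A A') q).asIdeal.ResidueField
        ((PrimeSpectrum.comap (algebraMap A A') q).asIdeal.ResidueField ⊗[A] L) :=
  (tower_fibre A' q.asIdeal.ResidueField).1.trans (field_fibre _ _ (by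
    rw [IsScalarTower.algebraMap_eq A A' q.asIdeal.ResidueField, ← RingHom.comap_ker,
      Ideal.ker_algebraMap_residueField]
    rfl)).1

theorem isRegular_fibre_baseChange [Module.Finite A L] (A' : Type u) [CommRing A'] [Algebra A A']
    (q : PrimeSpectrum A') (a : L) :
    LieAlgebra.IsRegular q.asIdeal.ResidueField ((1 : q.asIdeal.ResidueField) ⊗ₜ[A'] ((1 : A') ⊗ₜ[A] a)) ↔
      LieAlgebra.IsRegular (PrimeSpectrum.comap (algebraMap A A') q).asIdeal.ResidueField
        ((1 : (PrimeSpectrum.comap (algebraMap A A') q).asIdeal.ResidueField) ⊗ₜ[A] a) := by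
  rw [(tower_fibre A' q.asIdeal.ResidueField).2, AlgebraTensorModule.cancelBaseChange_tmul, one_smul]
  exact (field_fibre _ _ (by
    rw [IsScalarTower.algebraMap_eq A A' q.asIdeal.ResidueField, ← RingHom.comap_ker,
      Ideal.ker_algebraMap_residueField]
    rfl)).2 a

theorem finrank_fibreSubmodule [Module.Finite A L] [Module.Projective A L] (H : LieSubalgebra A L)
    (hH : Module.Projective A (L ⧸ H.toSubmodule)) :
    Module.Finite A H.toSubmodule ∧ Module.Projective A H.toSubmodule ∧
      ∀ p : PrimeSpectrum A, finrank p.asIdeal.ResidueField (SGA3t2b.fibreSubmodule p H) =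
        Module.rankAtStalk H.toSubmodule p := by
  obtain ⟨s, hs⟩ := Module.projective_lifting_property H.toSubmodule.mkQ LinearMap.id (Submodule.mkQ_surjective _)
  let π : L →ₗ[A] H.toSubmodule := (LinearMap.id - s ∘ₗ H.toSubmodule.mkQ).codRestrict _ fun x => by
    rw [← Submodule.Quotient.mk_eq_zero]
    have := LinearMap.congr_fun hs (Submodule.Quotient.mk x)
    simp only [LinearMap.comp_apply, Submodule.mkQ_apply, LinearMap.id_apply] at this
    simp [this]
  have hπ : π ∘ₗ H.toSubmodule.subtype = LinearMap.id := LinearMap.ext fun x => Subtype.ext <| by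
    simp [π, (Submodule.Quotient.mk_eq_zero H.toSubmodule).2 x.2]
  haveI : Module.Finite A H.toSubmodule :=
    Module.Finite.of_surjective π fun x => ⟨x, LinearMap.congr_fun hπ x⟩
  haveI : Module.Projective A H.toSubmodule := Module.Projective.of_split _ π hπ
  refine ⟨inferInstance, inferInstance, fun p => ?_⟩
  have hinj : Function.Injective (H.toSubmodule.subtype.baseChange p.asIdeal.ResidueField) := by
    refine Function.LeftInverse.injective (g := π.baseChange p.asIdeal.ResidueField) fun x => ?_
    rw [← LinearMap.comp_apply, ← LinearMap.baseChange_comp, hπ, LinearMap.baseChange_id, LinearMap.id_apply]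
  rw [Module.rankAtStalk_eq, SGA3t2b.fibreSubmodule]
  exact (LinearEquiv.ofInjective _ hinj).finrank_eq.symm

theorem rank_locallyConstant [Module.Finite A L] [Module.Projective A L]
    (A' : Type u) [CommRing A'] [Algebra A A'] [Module.FaithfullyFlat A A']
    (H : LieSubalgebra A' (A' ⊗[A] L)) (hH : SGA3t2b.IsCartanRel H) :
    ∀ p : PrimeSpectrum A, ∃ f : A, f ∉ p.asIdeal ∧ ∀ q : PrimeSpectrum A, f ∉ q.asIdeal →
        LieAlgebra.rank q.asIdeal.ResidueField (q.asIdeal.ResidueField ⊗[A] L) =
          LieAlgebra.rank p.asIdeal.ResidueField (p.asIdeal.ResidueField ⊗[A] L) := by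
  intro p
  obtain ⟨_, _, hfin⟩ := finrank_fibreSubmodule H hH.1
  haveI : Module.FinitePresentation A' H.toSubmodule := Module.finitePresentation_of_projective _ _
  let r : PrimeSpectrum A → ℕ := fun q =>
    LieAlgebra.rank q.asIdeal.ResidueField (q.asIdeal.ResidueField ⊗[A] L)
  have hpre : r ∘ PrimeSpectrum.comap (algebraMap A A') = Module.rankAtStalk H.toSubmodule := by
    funext q
    rw [Function.comp_apply, ← hfin q, (hH.2 q).2.2]
    exact (rank_fibre_baseChange A' q).symm
  have hq := PrimeSpectrum.isQuotientMap_of_generalizingMap (f := algebraMap A A')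
    PrimeSpectrum.comap_surjective_of_faithfullyFlat
    (RingHom.Flat.generalizingMap_comap (RingHom.flat_algebraMap_iff.2 inferInstance))
  have hopen : IsOpen (r ⁻¹' {r p}) := by
    refine hq.isOpen_preimage.1 ?_
    rw [← Set.preimage_comp, hpre]
    exact Module.isLocallyConstant_rankAtStalk _
  obtain ⟨_, ⟨f, rfl⟩, hpf, hf⟩ :=
    PrimeSpectrum.isTopologicalBasis_basic_opens.exists_subset_of_mem_open (Set.mem_singleton (r p) : p ∈ r ⁻¹' {r p}) hopen
  exact ⟨f, hpf, fun q hq => hf hq⟩

end Groth.Agent.LieNil20
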