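import Groth.Agent.Lib.LieNil20.Main

/-!
# The regular locus of a section
-/

universe u

open TensorProduct LieModule

set_option backward.isDefEq.respectTransparency false
set_option linter.style.haveILetI false

attribute [local instance 100] LieRing.ofAssociativeRing

namespace Groth.Agent.LieNil20

variable {A : Type u} [CommRing A] {L : Type u} [LieRing L] [LieAlgebra A L]

theorem isOpen_isRegular [Module.Finite A L] [Module.Projective A L]
    (hC0 : ∀ p : PrimeSpectrum A, ∃ f : A, f ∉ p.asIdeal ∧ ∀ q : PrimeSpectrum A, f ∉ q.asIdeal →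
        LieAlgebra.rank q.asIdeal.ResidueField (q.asIdeal.ResidueField ⊗[A] L) =
          LieAlgebra.rank p.asIdeal.ResidueField (p.asIdeal.ResidueField ⊗[A] L)) (a : L) :
    IsOpen {p : PrimeSpectrum A |
      LieAlgebra.IsRegular p.asIdeal.ResidueField ((1 : p.asIdeal.ResidueField) ⊗ₜ[A] a)} := by
  obtain ⟨n, f, g, hf, hg, hfg⟩ := Module.Finite.exists_comp_eq_id_of_projective A L
  have hfg' : ∀ x, f (g x) = x := fun x => LinearMap.congr_fun hfg x
  let Q := LinearMap.ker f
  let π : (Fin n → A) →ₗ[A] Q := (LinearMap.id - g ∘ₗ f).codRestrict Q fun x => by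
    simp [Q, hfg']
  have hπ : ∀ x : Q, π x = x := fun x => Subtype.ext (by simp [π, LinearMap.mem_ker.1 x.2])
  haveI : Module.Finite A Q := Module.Finite.of_surjective π fun x => ⟨x, hπ x⟩
  haveI : Module.Projective A Q := Module.Projective.of_split Q.subtype π (LinearMap.ext hπ)
  haveI : Module.FinitePresentation A Q := Module.finitePresentation_of_projective A Q
  let e : (L × Q) ≃ₗ[A] (Fin n → A) := LinearEquiv.ofLinearMap (g.coprod Q.subtype) (f.prod π)
    (LinearMap.ext fun x => by simp [π, Q])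
    (LinearMap.ext fun x => by
      obtain ⟨x, y⟩ := x
      refine Prod.ext ?_ (Subtype.ext ?_) <;> simp [π, hfg', LinearMap.mem_ker.1 y.2])
  haveI : Module.Free A (L × Q) := Module.Free.of_equiv e.symm
  let φ : Module.End A (L × Q) := (LieAlgebra.ad A L a).prodMap 0
  have key : ∀ p : PrimeSpectrum A,
      (LieAlgebra.ad p.asIdeal.ResidueField (p.asIdeal.ResidueField ⊗[A] L)
          ((1 : p.asIdeal.ResidueField) ⊗ₜ[A] a)).charpoly * Polynomial.X ^ Module.rankAtStalk Q p =
        φ.charpoly.map (algebraMap A p.asIdeal.ResidueField) := fun p => by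
    let κ := p.asIdeal.ResidueField
    have hQ : Module.finrank κ (κ ⊗[A] Q) = Module.rankAtStalk Q p :=
      (Module.rankAtStalk_eq (M := Q) p).symm
    rw [← LinearMap.charpoly_baseChange, ← hQ, ← LinearMap.charpoly_zero, ← LinearMap.charpoly_prodMap,
      ← LinearEquiv.charpoly_conj (TensorProduct.prodRight A κ κ L Q) (φ.baseChange κ)]
    congr 1
    have e1 : LieAlgebra.ad κ (κ ⊗[A] L) ((1 : κ) ⊗ₜ[A] a) = (LieAlgebra.ad A L a).baseChange κ :=
      LieModule.toEnd_baseChange A κ L L a
    rw [e1]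
    refine LinearMap.ext fun z => ?_
    obtain ⟨w, rfl⟩ := (TensorProduct.prodRight A κ κ L Q).surjective z
    rw [LinearEquiv.conj_apply, LinearMap.comp_apply, LinearMap.comp_apply, LinearEquiv.coe_coe,
      LinearEquiv.coe_coe, LinearEquiv.symm_apply_apply]
    induction w using TensorProduct.induction_on with
    | zero => simp
    | tmul c x =>
      simp [φ]
      rfl
    | add x y hx hy => simp only [map_add, hx, hy]
  rw [isOpen_iff_forall_mem_open]
  intro p hp
  obtain ⟨s, hs, hsq⟩ := hC0 p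
  let r := LieAlgebra.rank p.asIdeal.ResidueField (p.asIdeal.ResidueField ⊗[A] L)
  let d := Module.rankAtStalk Q p
  let c := φ.charpoly.coeff (r + d)
  have hiff : ∀ q : PrimeSpectrum A, s ∉ q.asIdeal → Module.rankAtStalk Q q = d →
      (LieAlgebra.IsRegular q.asIdeal.ResidueField ((1 : q.asIdeal.ResidueField) ⊗ₜ[A] a) ↔ c ∉ q.asIdeal) := by
    intro q hq hd
    rw [LieAlgebra.isRegular_def, hsq q hq]
    have h := congrArg (Polynomial.coeff · (r + d)) (key q)
    simp only [hd, Polynomial.coeff_mul_X_pow, Polynomial.coeff_map] at h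
    rw [h]
    exact not_congr Ideal.algebraMap_residueField_eq_zero
  refine ⟨{q | s ∉ q.asIdeal} ∩ (Module.rankAtStalk Q ⁻¹' {d}) ∩ {q | c ∉ q.asIdeal}, ?_, ?_, ?_⟩
  · intro q hq
    exact (hiff q hq.1.1 hq.1.2).2 hq.2
  · refine IsOpen.inter (IsOpen.inter ?_ ?_) ?_
    · exact (PrimeSpectrum.basicOpen s).isOpen
    · exact Module.isLocallyConstant_rankAtStalk _
    · exact (PrimeSpectrum.basicOpen c).isOpen
  · exact ⟨⟨hs, rfl⟩, (hiff p hs rfl).1 hp⟩

end Groth.Agent.LieNil20
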