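import Groth.Agent.Lib.LieNil20.Quasi

/-!
# Quasi-regular elements over a reduced base with locally constant rank
-/

universe u

open TensorProduct LieModule Module Polynomial

set_option backward.isDefEq.respectTransparency false
set_option linter.style.haveILetI false

attribute [local instance 100] LieRing.ofAssociativeRing

namespace Groth.Agent.LieNil20

variable {A : Type u} [CommRing A]

theorem exists_free_prod (M : Type u) [AddCommGroup M] [Module A M] [Module.Finite A M] [Module.Projective A M] :
    ∃ (Q : Type u) (_ : AddCommGroup Q) (_ : Module A Q), Module.Finite A Q ∧ Module.Projective A Q ∧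
      Module.Free A (M × Q) := by
  obtain ⟨n, f, g, hf, hg, hfg⟩ := Module.Finite.exists_comp_eq_id_of_projective A M
  have hfg' : ∀ x, f (g x) = x := fun x => LinearMap.congr_fun hfg x
  let Q := LinearMap.ker f
  let π : (Fin n → A) →ₗ[A] Q := (LinearMap.id - g ∘ₗ f).codRestrict Q fun x => by simp [Q, hfg']
  have hπ : ∀ x : Q, π x = x := fun x => Subtype.ext (by simp [π, LinearMap.mem_ker.1 x.2])
  let e : (M × Q) ≃ₗ[A] (Fin n → A) := LinearEquiv.ofLinearMap (g.coprod Q.subtype) (f.prod π)
    (LinearMap.ext fun x => by simp [π, Q])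
    (LinearMap.ext fun x => by
      obtain ⟨x, y⟩ := x
      refine Prod.ext ?_ (Subtype.ext ?_) <;> simp [π, hfg', LinearMap.mem_ker.1 y.2])
  exact ⟨Q, inferInstance, inferInstance, Module.Finite.of_surjective π fun x => ⟨x, hπ x⟩,
    Module.Projective.of_split Q.subtype π (LinearMap.ext hπ), Module.Free.of_equiv e.symm⟩

theorem baseChange_prodMap_zero {M Q : Type u} [AddCommGroup M] [Module A M] [AddCommGroup Q] [Module A Q]
    (φ : Module.End A M) (K : Type u) [CommRing K] [Algebra A K] :
    (TensorProduct.prodRight A K K M Q).conj ((φ.prodMap (0 : Module.End A Q)).baseChange K) =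
      (φ.baseChange K).prodMap 0 := by
  refine LinearMap.ext fun z => ?_
  obtain ⟨w, rfl⟩ := (TensorProduct.prodRight A K K M Q).surjective z
  rw [LinearEquiv.conj_apply, LinearMap.comp_apply, LinearMap.comp_apply, LinearEquiv.coe_coe,
    LinearEquiv.coe_coe, LinearEquiv.symm_apply_apply]
  induction w using TensorProduct.induction_on with
  | zero => simp; rfl
  | tmul c x => simp
  | add x y hx hy => simp only [map_add, hx, hy]

theorem charpoly_prod_zero_map {M Q : Type u} [AddCommGroup M] [Module A M] [Module.Finite A M]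
    [AddCommGroup Q] [Module A Q] [Module.Finite A Q] [Module.Free A (M × Q)] (φ : Module.End A M)
    (K : Type u) [Field K] [Algebra A K] :
    (φ.prodMap (0 : Module.End A Q)).charpoly.map (algebraMap A K) =
      (φ.baseChange K).charpoly * X ^ finrank K (K ⊗[A] Q) := by
  rw [← LinearMap.charpoly_baseChange, ← LinearEquiv.charpoly_conj (TensorProduct.prodRight A K K M Q),
    baseChange_prodMap_zero, LinearMap.charpoly_prodMap, LinearMap.charpoly_zero]

theorem aeval_charpoly_prod_zero {M Q : Type u} [AddCommGroup M] [Module A M] [Module.Finite A M]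
    [AddCommGroup Q] [Module A Q] [Module.Finite A Q] [Module.Free A (M × Q)] (φ : Module.End A M) :
    aeval φ (φ.prodMap (0 : Module.End A Q)).charpoly = 0 := by
  have h : ∀ (P : A[X]) (x : M), aeval (φ.prodMap (0 : Module.End A Q)) P (x, 0) = (aeval φ P x, 0) := by
    intro P
    induction P using Polynomial.induction_on with
    | C a => intro x; simp [Algebra.algebraMap_eq_smul_one]
    | add p q hp hq => intro x; simp [map_add, hp, hq]
    | monomial n a ih =>
      intro x
      rw [pow_succ, ← mul_assoc, map_mul (aeval (φ.prodMap (0 : Module.End A Q))) (Polynomial.C a * X ^ n) X,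
        map_mul (aeval φ) (Polynomial.C a * X ^ n) X, aeval_X, aeval_X, Module.End.mul_apply, Module.End.mul_apply,
        LinearMap.prodMap_apply, LinearMap.zero_apply, ih]
  refine LinearMap.ext fun x => ?_
  have := h (φ.prodMap (0 : Module.End A Q)).charpoly x
  rw [LinearMap.aeval_self_charpoly, LinearMap.zero_apply] at this
  exact (congrArg Prod.fst this).symm

theorem finrank_field_fibre (Q : Type u) [AddCommGroup Q] [Module A Q] [Module.Finite A Q] [Module.Projective A Q]
    (K : Type u) [Field K] [Algebra A K] (p : PrimeSpectrum A) (hp : p.asIdeal = RingHom.ker (algebraMap A K)) :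
    finrank K (K ⊗[A] Q) = Module.rankAtStalk Q p := by
  let κ := p.asIdeal.ResidueField
  let f₀ : κ →ₐ[A] K := Ideal.ResidueField.liftₐ p.asIdeal (Algebra.ofId A K) hp.le (fun x hx => isUnit_iff_ne_zero.2
    fun e => hx (hp ▸ (RingHom.mem_ker.2 e : x ∈ RingHom.ker (algebraMap A K))))
  letI : Algebra κ K := f₀.toRingHom.toAlgebra
  haveI : IsScalarTower A κ K := IsScalarTower.of_algebraMap_eq fun a => (f₀.commutes a).symm
  rw [← (AlgebraTensorModule.cancelBaseChange A κ K K Q).finrank_eq, Module.finrank_baseChange,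
    Module.rankAtStalk_eq]

variable {L : Type u} [LieRing L] [LieAlgebra A L]

theorem exists_pi_regular [Module.Finite A L] [Module.Projective A L] [_root_.IsReduced A]
    (hC0 : ∀ p : PrimeSpectrum A, ∃ f : A, f ∉ p.asIdeal ∧ ∀ q : PrimeSpectrum A, f ∉ q.asIdeal →
        LieAlgebra.rank q.asIdeal.ResidueField (q.asIdeal.ResidueField ⊗[A] L) =
          LieAlgebra.rank p.asIdeal.ResidueField (p.asIdeal.ResidueField ⊗[A] L))
    (A' : Type u) [CommRing A'] [Algebra A A'] (a' : A' ⊗[A] L)
    (ha' : SGA3t2b.IsQuasiRegular A' (A' ⊗[A] L) a') :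
    ∃ (N : ℕ) (P : A'[X]), (LieAlgebra.ad A' (A' ⊗[A] L) a') ^ N =
      (LieAlgebra.ad A' (A' ⊗[A] L) a') ^ (N + 1) * aeval (LieAlgebra.ad A' (A' ⊗[A] L) a') P := by
  classical
  obtain ⟨Q, _, _, _, _, _⟩ := exists_free_prod (A := A) L
  haveI : Module.FinitePresentation A Q := Module.finitePresentation_of_projective A Q
  let b := Module.Free.chooseBasis A (L × Q)
  let Ψ : (L × Q) →ₗ[A] Module.End A (L × Q) :=
    { toFun := fun x => (LieAlgebra.ad A L x.1).prodMap 0
      map_add' := fun x y => by ext <;> simp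
      map_smul' := fun c x => by ext <;> simp }
  let Pu := LinearMap.polyCharpoly Ψ b
  haveI : Module.Free A' ((A' ⊗[A] L) × (A' ⊗[A] Q)) :=
    Module.Free.of_equiv (TensorProduct.prodRight A A' A' L Q)
  have hev : ∀ (K : Type u) [CommRing K] [Algebra A K] [Module.Free K ((K ⊗[A] L) × (K ⊗[A] Q))]
      (z : K ⊗[A] (L × Q)),
      ((LieAlgebra.ad K (K ⊗[A] L) ((TensorProduct.prodRight A K K L Q) z).1).prodMap
          (0 : Module.End K (K ⊗[A] Q))).charpoly =
        Pu.map (MvPolynomial.aeval ⇑((Algebra.TensorProduct.basis K b).repr z)).toRingHom := by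
    intro K _ _ _ z
    rw [show Pu = LinearMap.polyCharpolyAux Ψ b (Module.Free.chooseBasis A (L × Q)) from rfl,
      LinearMap.polyCharpolyAux_map_aeval, Finsupp.equivFunOnFinite_symm_coe, LinearEquiv.symm_apply_apply,
      ← LinearEquiv.charpoly_conj (TensorProduct.prodRight A K K L Q)]
    congr 1
    induction z using TensorProduct.induction_on with
    | zero => simp
    | add x y hx hy =>
      simp only [LinearMap.comp_apply] at hx hy ⊢
      simp only [map_add, Prod.fst_add]
      rw [← hx, ← hy]
      ext <;> simp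
    | tmul c y =>
      refine LinearMap.ext fun w => ?_
      obtain ⟨w, rfl⟩ := (TensorProduct.prodRight A K K L Q).surjective w
      induction w using TensorProduct.induction_on with
      | zero => simp
      | add u v hu hv => simp only [map_add, hu, hv]
      | tmul d v =>
        simp [Ψ, LinearMap.tensorProduct, LinearEquiv.conj_apply, LieAlgebra.ExtendScalars.bracket_tmul,
          TensorProduct.smul_tmul']
  let φ : Module.End A' (A' ⊗[A] L) := LieAlgebra.ad A' (A' ⊗[A] L) a'
  let c := (φ.prodMap (0 : Module.End A' (A' ⊗[A] Q))).charpoly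
  have hc : aeval φ c = 0 := aeval_charpoly_prod_zero φ
  have hlocal : ∀ q : Ideal A', q.IsPrime → ∃ x ∉ q, x ∈ piIdeal φ c.natDegree := by
    intro q hq
    let q' : PrimeSpectrum A' := ⟨q, hq⟩
    let p := PrimeSpectrum.comap (algebraMap A A') q'
    obtain ⟨f₁, hf₁, hr⟩ := hC0 p
    let d := Module.rankAtStalk Q p
    obtain ⟨_, ⟨f₂, rfl⟩, hf₂, hd⟩ := PrimeSpectrum.isTopologicalBasis_basic_opens.exists_subset_of_mem_open
      (Set.mem_singleton d : p ∈ Module.rankAtStalk Q ⁻¹' {d}) (Module.isLocallyConstant_rankAtStalk _)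
    let r := LieAlgebra.rank p.asIdeal.ResidueField (p.asIdeal.ResidueField ⊗[A] L)
    have huniv : ∀ i < r + d, MvPolynomial.C (f₁ * f₂) * Pu.coeff i = 0 := by
      intro i hi
      refine IsNilpotent.eq_zero (nilpotent_iff_mem_prime.2 fun J hJ => ?_)
      let K := J.ResidueField
      by_cases hmem : MvPolynomial.C (f₁ * f₂) ∈ J
      · exact J.mul_mem_right _ hmem
      refine J.mul_mem_left _ ?_
      rw [← Ideal.algebraMap_residueField_eq_zero (I := J)]
      let p₀ : PrimeSpectrum A := ⟨RingHom.ker (algebraMap A K), RingHom.ker_isPrime _⟩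
      have hp₀ : f₁ ∉ p₀.asIdeal ∧ f₂ ∉ p₀.asIdeal := by
        constructor
        · intro h
          refine hmem (Ideal.algebraMap_residueField_eq_zero.1 ?_)
          rw [← MvPolynomial.algebraMap_eq, ← IsScalarTower.algebraMap_apply, map_mul,
            RingHom.mem_ker.1 h, zero_mul]
        · intro h
          refine hmem (Ideal.algebraMap_residueField_eq_zero.1 ?_)
          rw [← MvPolynomial.algebraMap_eq, ← IsScalarTower.algebraMap_apply, map_mul,
            RingHom.mem_ker.1 h, mul_zero]
      let u : Module.Free.ChooseBasisIndex A (L × Q) → K := fun j =>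
        algebraMap (MvPolynomial (Module.Free.ChooseBasisIndex A (L × Q)) A) K (MvPolynomial.X j)
      obtain ⟨z, hz⟩ : ∃ z : K ⊗[A] (L × Q), ⇑((Algebra.TensorProduct.basis K b).repr z) = u :=
        ⟨(Algebra.TensorProduct.basis K b).repr.symm (Finsupp.equivFunOnFinite.symm u), by simp⟩
      have hu : (MvPolynomial.aeval u : MvPolynomial _ A →ₐ[A] K) =
          IsScalarTower.toAlgHom A (MvPolynomial (Module.Free.ChooseBasisIndex A (L × Q)) A) K :=
        MvPolynomial.algHom_ext fun j => by simp [u]
      have h := hev K z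
      rw [hz, LinearMap.charpoly_prodMap, LinearMap.charpoly_zero] at h
      have h2 := congrArg (Polynomial.coeff · i) h
      simp only [Polynomial.coeff_map, Polynomial.coeff_mul_X_pow'] at h2
      have hr₀ : LieAlgebra.rank K (K ⊗[A] L) = r :=
        ((field_fibre K p₀ rfl).1).trans (hr p₀ hp₀.1)
      have hd₀ : finrank K (K ⊗[A] Q) = d := (finrank_field_fibre Q K p₀ rfl).trans (hd hp₀.2)
      rw [hd₀] at h2
      have h3 : (if d ≤ i then (LieAlgebra.ad K (K ⊗[A] L) ((TensorProduct.prodRight A K K L Q) z).1).charpoly.coeff (i - d)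
          else 0) = 0 := by
        split_ifs with hle
        · refine Polynomial.coeff_eq_zero_of_lt_natTrailingDegree (lt_of_lt_of_le ?_
            (LieAlgebra.rank_le_natTrailingDegree_charpoly_ad K _))
          rw [hr₀]
          omega
        · rfl
      rw [h3] at h2
      rw [hu] at h2
      exact h2.symm
    obtain ⟨z, hz⟩ : ∃ z : A' ⊗[A] (L × Q), z = (TensorProduct.prodRight A A' A' L Q).symm (a', 0) := ⟨_, rfl⟩
    have hcu : c = Pu.map (MvPolynomial.aeval ⇑((Algebra.TensorProduct.basis A' b).repr z)).toRingHom := by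
      rw [← hev A' z, hz, LinearEquiv.apply_symm_apply]
    have hcs : algebraMap A' q'.asIdeal.ResidueField (c.coeff (r + d)) ≠ 0 := by
      rw [← Polynomial.coeff_map, charpoly_prod_zero_map,
        show finrank q'.asIdeal.ResidueField (q'.asIdeal.ResidueField ⊗[A'] (A' ⊗[A] Q)) = d from ?_,
        Polynomial.coeff_mul_X_pow,
        show φ.baseChange q'.asIdeal.ResidueField = LieAlgebra.ad _ _ ((1 : q'.asIdeal.ResidueField) ⊗ₜ[A'] a') from
          (LieModule.toEnd_baseChange A' q'.asIdeal.ResidueField (A' ⊗[A] L) (A' ⊗[A] L) a').symm]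
      · have h4 := (LieAlgebra.isRegular_def _ _).1 (ha' q')
        rwa [rank_fibre_baseChange A' q'] at h4
      · rw [(AlgebraTensorModule.cancelBaseChange A A' q'.asIdeal.ResidueField q'.asIdeal.ResidueField Q).finrank_eq]
        refine finrank_field_fibre Q _ p ?_
        rw [IsScalarTower.algebraMap_eq A A' q'.asIdeal.ResidueField, ← RingHom.comap_ker,
          Ideal.ker_algebraMap_residueField]
        rfl
    have hs : r + d ≤ c.natDegree := Polynomial.le_natDegree_of_ne_zero fun h => hcs (by rw [h, map_zero])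
    refine exists_mem_piIdeal φ c hc hs q (algebraMap A A' (f₁ * f₂)) (fun h => ?_) (fun i hi => ?_) fun h =>
      hcs (Ideal.algebraMap_residueField_eq_zero.2 h)
    · rw [map_mul] at h
      exact (hq.mem_or_mem h).elim hf₁ hf₂
    · rw [hcu, Polynomial.coeff_map]
      have := congrArg (MvPolynomial.aeval (R := A) ⇑((Algebra.TensorProduct.basis A' b).repr z)) (huniv i hi)
      rwa [map_mul, MvPolynomial.aeval_C, map_zero] at this
  obtain ⟨P, hP⟩ := (Ideal.eq_top_iff_one _).1 (eq_top_of_forall_prime (piIdeal φ c.natDegree) hlocal)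
  exact ⟨c.natDegree, P, by rwa [one_smul] at hP⟩

/-- Over a reduced base with locally constant rank, quasi-regular elements are regular. -/
theorem isRegularRel_of_quasiRegular [Module.Finite A L] [Module.Projective A L] [_root_.IsReduced A]
    (hC0 : ∀ p : PrimeSpectrum A, ∃ f : A, f ∉ p.asIdeal ∧ ∀ q : PrimeSpectrum A, f ∉ q.asIdeal →
        LieAlgebra.rank q.asIdeal.ResidueField (q.asIdeal.ResidueField ⊗[A] L) =
          LieAlgebra.rank p.asIdeal.ResidueField (p.asIdeal.ResidueField ⊗[A] L))
    (A' : Type u) [CommRing A'] [Algebra A A'] (a' : A' ⊗[A] L)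
    (ha' : SGA3t2b.IsQuasiRegular A' (A' ⊗[A] L) a') :
    SGA3t2b.IsRegularRel A' (A' ⊗[A] L) a' := by
  obtain ⟨N, P, h⟩ := exists_pi_regular hC0 A' a' ha'
  have hE : (LieSubalgebra.engel A' a').toSubmodule =
      LinearMap.ker ((LieAlgebra.ad A' (A' ⊗[A] L) a') ^ N) := Submodule.ext fun x => by
    rw [ker_eq_iUnion h x]
    exact LieSubalgebra.mem_engel_iff A' a' x
  obtain ⟨h1, h2, h3⟩ := fitting_decomposition h
  refine ⟨ha', LieSubalgebra.engel A' a', isCartanRel_engel ha' (hE ▸ h1) (fun z hz => ?_) (fun y => ?_),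
    LieSubalgebra.self_mem_engel A' a'⟩
  · rw [← LieSubalgebra.mem_toSubmodule, hE] at hz ⊢
    exact h2 z hz
  · obtain ⟨z, hz⟩ := h3 y
    exact ⟨z, by rw [← LieSubalgebra.mem_toSubmodule, hE]; exact hz⟩

end Groth.Agent.LieNil20
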